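import Cfsg.Agent.Mrg.RankTwoClose.BN
import Cfsg.Agent.Mrg.RankTwoClose.Braid
import Cfsg.Agent.Mrg.Omega.TwoFFour.SitNO
import Cfsg.Agent.Mrg.Omega.TwoFFour.Syl
import Cfsg.Agent.Mrg.Omega.Close.Base
import Cfsg.Agent.Mrg.Omega.Exit.WeakClosed

-- merged: Cfsg.Agent.Mrg.Omega.TwoFFour.Root
section

/-!
# THEOREM 2F4, (7d): the root pair in `P₀`, the braid relation of length 8, the split BN-pair

`w = n₁ n₀ n₁`, `A⁺ = w⁻¹ A w = ker (θ χ₂ - χ₀)`, `E⁺ = w⁻¹ E w ≤ S` (regular on the chambers `≠ B` of the panel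
of `P₀`), `E⁻ = n₀ E⁺ n₀⁻¹`, `K = ⟨E⁺, E⁻⟩`.
-/

set_option autoImplicit false
set_option linter.unusedSectionVars false

universe u

namespace Cfsg.Agent.Omega.TwoFFour

open Subgroup Cfsg.Agent.Omega.BTwo Cfsg.Agent.RankTwoClose Cfsg.Agent.Omega.RootLemma

/-- Sylow's theorem for a maximal 2-subgroup `U` of `K`. -/
theorem exists_conj_le {G : Type*} [Group G] [Finite G] {K U V : Subgroup G} (hU : IsPGroup 2 U)
    (hmax : ∀ R : Subgroup G, R ≤ K → IsPGroup 2 R → U ≤ R → R ≤ U) (hUK : U ≤ K)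
    (hV : IsPGroup 2 V) (hVK : V ≤ K) : ∃ k ∈ K, ∀ v ∈ V, k * v * k⁻¹ ∈ U := by
  have hp : Fact (Nat.Prime 2) := ⟨Nat.prime_two⟩
  obtain ⟨T, hT⟩ := (hU.comap_subtype (K := K)).exists_le_sylow
  have hTU : ∀ t : K, t ∈ T → (t : G) ∈ U := by
    intro t ht
    refine hmax ((T : Subgroup K).map K.subtype) (map_subtype_le _) (T.isPGroup'.map _) ?_ ⟨t, ht, rfl⟩
    intro u hu
    exact ⟨⟨u, hUK hu⟩, hT (mem_subgroupOf.2 hu), rfl⟩
  obtain ⟨R, hR⟩ := (hV.comap_subtype (K := K)).exists_le_sylow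
  obtain ⟨g, hg⟩ := MulAction.exists_smul_eq K R T
  refine ⟨g, g.2, fun v hv => ?_⟩
  have h1 : (⟨v, hVK hv⟩ : K) ∈ R := hR (mem_subgroupOf.2 hv)
  have h2 : g * (⟨v, hVK hv⟩ : K) * g⁻¹ ∈ (T : Subgroup K) := by
    rw [← hg]
    exact smul_mem_pointwise_smul _ (MulAut.conj g) _ h1
  exact hTU _ h2

namespace Oct

variable {G : Type u} [Group G] {P Q : Bool → Subgroup G} {n : Bool → G} {B S H Z W O : Subgroup G}
  {N : ℕ} {θ : ZMod N} {x y : G → ZMod N}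

section root

/-- `w = n₁ n₀ n₁`, the reflection at `u₂`. -/
def w (_ : Oct P Q n B S H Z W O θ x y) : G := n true * n false * n true

variable [Finite G] (h : Oct P Q n B S H Z W O θ x y)
include h

/-- `A⁺` -/
def Ap : Subgroup G := cj h.w⁻¹ h.A

/-- `E⁺` -/
def Ep : Subgroup G := cj h.w⁻¹ h.E

/-- `E⁻` -/
def Em : Subgroup G := cj (n false) h.Ep

/-- `K` -/
def K : Subgroup G := h.Ep ⊔ h.Em

theorem w_norm : h.w ∈ normalizer (H : Set G) := mul_mem h.tau_norm (h.n_norm true)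

theorem mem_Ap {t : G} : t ∈ h.Ap ↔ t ∈ H ∧ θ * y t = x t := by
  unfold Ap
  rw [mem_cj, inv_inv, h.mem_A]
  have e : ∀ t : G, h.w * t * h.w⁻¹ = n true * (n false * (n true * t * (n true)⁻¹) * (n false)⁻¹) *
      (n true)⁻¹ := by
    intro t
    unfold w
    group
  constructor
  · rintro ⟨h1, h2⟩
    have ht : t ∈ H := by
      have := h.H_conj h.w_norm h1
      have e1 : h.w⁻¹ * (h.w * t * h.w⁻¹) * h.w = t := by group
      rwa [e1] at this
    refine ⟨ht, ?_⟩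
    rw [e, h.x₁' (h.n_conj false (h.n_conj true ht)), h.y₀' (h.n_conj true ht), h.x₁' ht,
      h.y₁' ht] at h2
    linear_combination h2
  · rintro ⟨ht, h2⟩
    refine ⟨conj_mem_of_normalizer h.w_norm ht, ?_⟩
    rw [e, h.x₁' (h.n_conj false (h.n_conj true ht)), h.y₀' (h.n_conj true ht), h.x₁' ht, h.y₁' ht]
    linear_combination h2

theorem cj_Ap : cj (n false) h.Ap = h.Ap := by
  ext t
  rw [mem_cj, h.mem_Ap, h.mem_Ap]
  constructor
  · rintro ⟨h1, h2⟩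
    have ht : t ∈ H := by
      have := h.n_conj false h1
      have e1 : n false * ((n false)⁻¹ * t * n false) * (n false)⁻¹ = t := by group
      rwa [e1] at this
    refine ⟨ht, ?_⟩
    rw [h.x₀ t ht, h.y₀ t ht] at h2
    linear_combination -h2 + x t * h.sq
  · rintro ⟨ht, h2⟩
    refine ⟨h.n_conj' false ht, ?_⟩
    rw [h.x₀ t ht, h.y₀ t ht]
    linear_combination -h2 + x t * h.sq

theorem Ep_cen : ∀ s ∈ h.Ep, ∀ a ∈ h.Ap, s * a = a * s := by
  intro s hs a ha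
  unfold Ep at hs
  unfold Ap at ha
  rw [mem_cj] at hs ha
  have h1 := (h.mem_E.1 hs).2 _ ha
  rw [inv_inv] at h1
  have e1 : a * s = h.w⁻¹ * (h.w * a * h.w⁻¹ * (h.w * s * h.w⁻¹)) * h.w := by group
  have e2 : s * a = h.w⁻¹ * (h.w * s * h.w⁻¹ * (h.w * a * h.w⁻¹)) * h.w := by group
  rw [e1, e2, h1]

theorem Em_cen : ∀ s ∈ h.Em, ∀ a ∈ h.Ap, s * a = a * s := by
  intro s hs a ha
  unfold Em at hs
  rw [← h.cj_Ap] at ha
  rw [mem_cj] at hs ha
  have h1 := h.Ep_cen _ hs _ ha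
  have e1 : a * s = n false * (((n false)⁻¹ * a * n false) * ((n false)⁻¹ * s * n false)) * (n false)⁻¹ := by
    group
  have e2 : s * a = n false * (((n false)⁻¹ * s * n false) * ((n false)⁻¹ * a * n false)) * (n false)⁻¹ := by
    group
  rw [e1, e2, h1]

theorem K_cen : ∀ s ∈ h.K, ∀ a ∈ h.Ap, s * a = a * s := by
  have h1 : h.K ≤ centralizer (h.Ap : Set G) := by
    refine sup_le ?_ ?_
    · intro s hs
      exact mem_centralizer_iff.2 fun a ha => (h.Ep_cen s hs a ha).symm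
    · intro s hs
      exact mem_centralizer_iff.2 fun a ha => (h.Em_cen s hs a ha).symm
  intro s hs a ha
  exact (mem_centralizer_iff.1 (h1 hs) a ha).symm

theorem Ep_le_S : h.Ep ≤ S := by
  have h1 := cj_mono (g := h.w⁻¹) h.E_le₃
  have e : cj h.w⁻¹ (cj (n true * n false * n true) S) = S := cj_inv_cj h.w S
  rwa [e] at h1

theorem Ep_inf : h.Ep ⊓ Q false = ⊥ := by
  have h1 := congrArg (cj h.w⁻¹) h.E_inf
  rw [cj_inf, h.cj_tau_Q, cj_bot] at h1
  have e : cj h.w⁻¹ (cj (n true * n false * n true) (Q false)) = Q false := cj_inv_cj h.w _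
  rwa [e] at h1

theorem Ep_cov {s : G} (hs : s ∈ S) : ∃ e ∈ h.Ep, e⁻¹ * s ∈ Q false := by
  obtain ⟨e, he, heq⟩ := h.E_cov (h.w * s * h.w⁻¹) (conj_mem_cj hs)
  refine ⟨h.w⁻¹ * e * h.w, ?_, ?_⟩
  · unfold Ep
    rw [mem_cj, inv_inv]
    have e1 : h.w * (h.w⁻¹ * e * h.w) * h.w⁻¹ = e := by group
    rwa [e1]
  · have h2 := mem_cj.1 heq
    have e1 : ∀ g : G, g⁻¹ * (e⁻¹ * (g * s * g⁻¹)) * g = (g⁻¹ * e * g)⁻¹ * s := by
      intro g; group
    have h3 : h.w⁻¹ * (e⁻¹ * (h.w * s * h.w⁻¹)) * h.w ∈ Q false := h2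
    rwa [e1] at h3

theorem Ep_two : IsPGroup 2 h.Ep := h.twoS.to_le h.Ep_le_S

theorem Em_two : IsPGroup 2 h.Em := h.Ep_two.map _

theorem Ep_syl {R : Subgroup G} (hR : IsPGroup 2 R) (hRA : ∀ r ∈ R, ∀ a ∈ h.Ap, r * a = a * r)
    (hER : h.Ep ≤ R) : R ≤ h.Ep := by
  have h1 : cj h.w R ≤ h.E := by
    refine h.E_syl (hR.map _) ?_ ?_
    · intro r hr a ha
      rw [mem_cj] at hr
      have h2 := hRA _ hr (h.w⁻¹ * a * h.w) (by
        unfold Ap
        rw [mem_cj, inv_inv]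
        have e1 : h.w * (h.w⁻¹ * a * h.w) * h.w⁻¹ = a := by group
        rwa [e1])
      have e1 : r * a = h.w * (h.w⁻¹ * r * h.w * (h.w⁻¹ * a * h.w)) * h.w⁻¹ := by group
      have e2 : a * r = h.w * (h.w⁻¹ * a * h.w * (h.w⁻¹ * r * h.w)) * h.w⁻¹ := by group
      rw [e1, e2, h2]
    · have h2 := cj_mono (g := h.w) hER
      unfold Ep at h2
      rwa [cj_cj_inv] at h2
  have h2 := cj_mono (g := h.w⁻¹) h1
  rwa [cj_inv_cj] at h2

theorem Em_le : h.Em ≤ P false := by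
  unfold Em
  rw [cj_le_iff]
  intro s hs
  exact mul_mem (mul_mem (h.n_mem false) (h.B_le false (h.S_le (h.Ep_le_S hs)))) (inv_mem (h.n_mem false))

theorem K_le : h.K ≤ P false := sup_le ((h.Ep_le_S.trans h.S_le).trans (h.B_le false)) h.Em_le

/-- `E⁺` is transitive on the chambers `≠ B`. -/
theorem Ep_tr {g : G} (hg : g ∈ P false) (hgB : g ∉ B) :
    ∃ e ∈ h.Ep, ∃ b ∈ B, g = e * n false * b := by
  rcases (h.memP false g).1 hg with h1 | ⟨s, hs, c, hc, rfl⟩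
  · exact absurd h1 hgB
  · obtain ⟨e, he, hes⟩ := h.Ep_cov hs
    have h2 := h.Q_nrm false _ (inv_mem (h.n_mem false)) _ hes
    rw [inv_inv] at h2
    exact ⟨e, he, (n false)⁻¹ * (e⁻¹ * s) * n false * c,
      mul_mem (h.S_le (h.Q_le false h2)) hc, by group⟩

/-- `E⁻` is transitive on the chambers `≠ n₀ B`. -/
theorem Em_tr {g : G} (hg : g ∈ P false) (hgB : (n false)⁻¹ * g ∉ B) :
    ∃ f ∈ h.Em, ∃ b ∈ B, g = f * b := by
  obtain ⟨e, he, b, hb, h1⟩ := h.Ep_tr (mul_mem (inv_mem (h.n_mem false)) hg) hgB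
  refine ⟨n false * e * (n false)⁻¹, conj_mem_cj he, n false * n false * b,
    mul_mem (h.sq_mem false) hb, ?_⟩
  calc g = n false * ((n false)⁻¹ * g) := by group
    _ = n false * (e * n false * b) := by rw [h1]
    _ = _ := by group

theorem exists_f : ∃ f ∈ h.Em, f ∉ B := by
  obtain ⟨s, hs, hs'⟩ := h.Q_ne false
  obtain ⟨e, he, hes⟩ := h.Ep_cov hs
  refine ⟨n false * e * (n false)⁻¹, conj_mem_cj he, fun hB => hs' ?_⟩
  have h1 : e ∈ Q false := by
    apply h.Q_max false e (h.Ep_le_S he)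
    have e1 : (n false)⁻¹ * e * n false = (n false * n false)⁻¹ * (n false * e * (n false)⁻¹) *
        (n false * n false) := by group
    rw [e1]
    exact mul_mem (mul_mem (inv_mem (h.sq_mem false)) hB) (h.sq_mem false)
  have e1 : s = e * (e⁻¹ * s) := by group
  rw [e1]
  exact mul_mem h1 hes

/-- an element of `K` interchanging `B` and `n₀ B` -/
theorem exists_k : ∃ k ∈ h.K, (n false)⁻¹ * k ∈ B ∧ k * n false ∈ B := by
  obtain ⟨f, hf, hfB⟩ := h.exists_f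
  obtain ⟨e₁, he₁, b, hb, h1⟩ := h.Ep_tr (h.Em_le hf) hfB
  -- `f n₀ ∈ n₀ B`
  obtain ⟨e, he, hfe⟩ : ∃ e ∈ h.Ep, f = n false * e * (n false)⁻¹ := by
    have h2 : f ∈ cj (n false) h.Ep := hf
    exact ⟨_, mem_cj.1 h2, by group⟩
  have heB : e ∈ B := h.S_le (h.Ep_le_S he)
  have he₁B : e₁ ∈ B := h.S_le (h.Ep_le_S he₁)
  -- `e₁⁻¹ n₀ ∉ n₀ B`
  have h3 : (n false)⁻¹ * (e₁⁻¹ * n false) ∉ B := by
    intro h4
    have h5 : e₁⁻¹ ∈ Q false := by
      apply h.Q_max false _ (inv_mem (h.Ep_le_S he₁))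
      have e2 : (n false)⁻¹ * e₁⁻¹ * n false = (n false)⁻¹ * (e₁⁻¹ * n false) := by group
      rwa [e2]
    have h6 : e₁⁻¹ ∈ h.Ep ⊓ Q false := mem_inf.2 ⟨inv_mem he₁, h5⟩
    rw [h.Ep_inf, mem_bot, inv_eq_one] at h6
    rw [h6, one_mul, hfe] at h1
    -- `n₀ e n₀⁻¹ = n₀ b`
    have h7 : (n false)⁻¹ = e⁻¹ * b := by
      have e3 : (n false)⁻¹ = e⁻¹ * ((n false)⁻¹ * (n false * e * (n false)⁻¹)) := by group
      rw [h1] at e3
      rw [e3]; group
    apply h.n_not false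
    rw [← inv_mem_iff, h7]
    exact mul_mem (inv_mem heB) hb
  obtain ⟨f₂, hf₂, b₂, hb₂, h4⟩ := h.Em_tr
    (mul_mem (inv_mem (h.B_le false he₁B)) (h.n_mem false)) h3
  obtain ⟨e₂, he₂, hfe₂⟩ : ∃ e₂ ∈ h.Ep, f₂ = n false * e₂ * (n false)⁻¹ := by
    have h2 : f₂ ∈ cj (n false) h.Ep := hf₂
    exact ⟨_, mem_cj.1 h2, by group⟩
  refine ⟨f₂⁻¹ * (e₁⁻¹ * f), ?_, ?_, ?_⟩
  · unfold K
    exact mul_mem (inv_mem (mem_sup_right hf₂)) (mul_mem (inv_mem (mem_sup_left he₁)) (mem_sup_right hf))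
  · have e3 : (n false)⁻¹ * (f₂⁻¹ * (e₁⁻¹ * f)) = e₂⁻¹ * b := by
      rw [h1, hfe₂]; group
    rw [e3]
    exact mul_mem (inv_mem (h.S_le (h.Ep_le_S he₂))) hb
  · have e3 : f₂⁻¹ * (e₁⁻¹ * f) * n false = f₂⁻¹ * (e₁⁻¹ * n false) * e := by
      rw [hfe]; group
    rw [e3, h4]
    have e4 : f₂⁻¹ * (f₂ * b₂) * e = b₂ * e := by group
    rw [e4]
    exact mul_mem hb₂ heB

theorem Q_inf_K : h.K ⊓ Q false = ⊥ := by
  rw [eq_bot_iff, ← h.Ep_inf]
  refine le_inf ?_ inf_le_right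
  have h1 : IsPGroup 2 (h.K ⊓ Q false : Subgroup G) :=
    h.twoS.to_le (inf_le_right.trans (h.Q_le false))
  have hn : h.Ep ≤ normalizer ((h.K ⊓ Q false : Subgroup G) : Set G) := by
    intro e he
    refine mem_normalizer_of_conj fun q hq => mem_inf.2 ⟨?_, ?_⟩
    · have heK : e ∈ h.K := mem_sup_left he
      exact mul_mem (mul_mem heK hq.1) (inv_mem heK)
    · exact h.Q_nrm false e (h.B_le false (h.S_le (h.Ep_le_S he))) q hq.2
  have h2 : IsPGroup 2 (h.Ep ⊔ (h.K ⊓ Q false) : Subgroup G) :=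
    IsPGroup.to_sup_of_normal_right' h.Ep_two h1 hn
  have h3 := h.Ep_syl h2 (by
    have h4 : h.Ep ⊔ (h.K ⊓ Q false) ≤ h.K := sup_le le_sup_left inf_le_left
    exact fun r hr => h.K_cen r (h4 hr)) le_sup_left
  exact le_sup_right.trans h3

theorem H_K {t k : G} (ht : t ∈ H) (hk : k ∈ h.K) : t * k * t⁻¹ ∈ h.K := by
  -- `H` normalises `E`
  have hA : ∀ {t a : G}, t ∈ H → a ∈ h.A → t * a * t⁻¹ ∈ h.A := by
    intro t a ht ha
    refine ⟨mul_mem (mul_mem ht ha.1) (inv_mem ht), ?_⟩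
    rw [h.x_mul _ (mul_mem ht ha.1) _ (inv_mem ht), h.x_mul _ ht _ ha.1, h.x_inv ht, ha.2]
    ring
  have hE : ∀ {t e : G}, t ∈ H → e ∈ h.E → t * e * t⁻¹ ∈ h.E := by
    intro t e ht he
    refine h.mem_E.2 ⟨h.S_nrm t (h.H_le ht) e (h.mem_E.1 he).1, fun a ha => ?_⟩
    have h1 := (h.mem_E.1 he).2 _ (hA (inv_mem ht) ha)
    rw [inv_inv] at h1
    have e1 : a * (t * e * t⁻¹) = t * (t⁻¹ * a * t * e) * t⁻¹ := by group
    have e2 : t * e * t⁻¹ * a = t * (e * (t⁻¹ * a * t)) * t⁻¹ := by group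
    rw [e1, e2, h1]
  have tr : ∀ {g : G} {R : Subgroup G}, g ∈ normalizer (H : Set G) →
      (∀ {t e : G}, t ∈ H → e ∈ R → t * e * t⁻¹ ∈ R) → ∀ {t e : G}, t ∈ H → e ∈ cj g R →
        t * e * t⁻¹ ∈ cj g R := by
    intro g R hg hR t e ht he
    rw [mem_cj] at he ⊢
    have h1 := hR (h.H_conj hg ht) he
    have e1 : g⁻¹ * t * g * (g⁻¹ * e * g) * (g⁻¹ * t * g)⁻¹ = g⁻¹ * (t * e * t⁻¹) * g := by group
    rwa [e1] at h1
  have hEp : ∀ {t e : G}, t ∈ H → e ∈ h.Ep → t * e * t⁻¹ ∈ h.Ep := tr (inv_mem h.w_norm) hE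
  have hEm : ∀ {t e : G}, t ∈ H → e ∈ h.Em → t * e * t⁻¹ ∈ h.Em := tr (h.n_norm false) hEp
  have h1 : cj t h.K ≤ h.K := by
    unfold K
    rw [cj_sup]
    refine sup_le_sup ?_ ?_
    · rw [cj_le_iff]; exact fun e he => hEp ht he
    · rw [cj_le_iff]; exact fun e he => hEm ht he
  exact h1 (conj_mem_cj hk)

/-- an element `k` of `K` interchanging `B` and `n₀ B` normalises `H` -/
theorem k_norm {k : G} (hk : k ∈ h.K) (h1 : (n false)⁻¹ * k ∈ B) (h2 : k * n false ∈ B) :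
    k ∈ normalizer (H : Set G) := by
  refine mem_normalizer_of_conj fun t ht => ?_
  set g := (n false)⁻¹ * k with hg
  have hkg : k = n false * g := by rw [hg]; group
  have h3 : n false * g * (n false)⁻¹ ∈ B := by
    have e : n false * g * (n false)⁻¹ = (k * n false) * (n false * n false)⁻¹ := by
      rw [hkg]; group
    rw [e]
    exact mul_mem h2 (inv_mem (h.sq_mem false))
  obtain ⟨s, hs, m, hmB, hmN, hgs⟩ := h.dec h1 h3
  set s' := n false * s * (n false)⁻¹ with hs'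
  have hs'Q : s' ∈ Q false := h.Q_nrm false _ (h.n_mem false) s hs
  set t' := n false * (m * t * m⁻¹) * (n false)⁻¹ with ht'
  have ht'H : t' ∈ H := h.n_conj false (conj_mem_of_normalizer hmN ht)
  have e1 : k * t * k⁻¹ = s' * t' * s'⁻¹ := by rw [hkg, hgs, hs', ht']; group
  set q := t'⁻¹ * (s' * t' * s'⁻¹) with hq
  have hqQ : q ∈ Q false := by
    have e2 : q = (t'⁻¹ * s' * (t'⁻¹)⁻¹) * s'⁻¹ := by rw [hq]; group
    rw [e2]
    exact mul_mem (h.Q_nrm false _ (h.B_le false (h.H_le (inv_mem ht'H))) _ hs'Q) (inv_mem hs'Q)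
  -- `q ∈ K H`
  have hKn : ∀ {a b : G}, a ∈ H → b ∈ h.K → a * b * a⁻¹ ∈ h.K := fun ha hb => h.H_K ha hb
  have hqK : ∃ c ∈ h.K, ∃ r ∈ H, q = c * r := by
    -- `q = t'⁻¹ k t k⁻¹`
    refine ⟨t'⁻¹ * k * (t'⁻¹)⁻¹ * ((t'⁻¹ * t) * k⁻¹ * (t'⁻¹ * t)⁻¹),
      mul_mem (hKn (inv_mem ht'H) hk) (hKn (mul_mem (inv_mem ht'H) ht) (inv_mem hk)),
      t'⁻¹ * t, mul_mem (inv_mem ht'H) ht, ?_⟩
    rw [hq, ← e1]; group
  obtain ⟨c, hc, r, hr, hqc⟩ := hqK
  -- powers of `c r`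
  have hpow : ∀ j : ℕ, ∃ c' ∈ h.K, (c * r) ^ j = c' * r ^ j := by
    intro j
    induction j with
    | zero => exact ⟨1, one_mem _, by simp⟩
    | succ j ih =>
      obtain ⟨c', hc', e2⟩ := ih
      refine ⟨c' * (r ^ j * c * (r ^ j)⁻¹), mul_mem hc' (hKn (pow_mem hr j) hc), ?_⟩
      rw [pow_succ, e2, pow_succ]; group
  have hqK : q ∈ h.K := by
    obtain ⟨c', hc', e2⟩ := hpow (Nat.card H)
    have e3 : r ^ Nat.card H = 1 := by
      have : (⟨r, hr⟩ : H) ^ Nat.card H = 1 := pow_card_eq_one'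
      exact congrArg Subtype.val this
    obtain ⟨j, hj⟩ := h.twoS ⟨q, h.Q_le false hqQ⟩
    have hj' : q ^ 2 ^ j = 1 := congrArg Subtype.val hj
    refine mem_of_pows h.oddH ?_ (by rw [hj']; exact one_mem _)
    rw [hqc, e2, e3, mul_one]
    exact hc'
  have hq1 : q ∈ h.K ⊓ Q false := mem_inf.2 ⟨hqK, hqQ⟩
  rw [h.Q_inf_K, mem_bot] at hq1
  have e4 : k * t * k⁻¹ = t' := by
    rw [e1]
    calc s' * t' * s'⁻¹ = t' * q := by rw [hq]; group
      _ = t' := by rw [hq1, mul_one]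
  rw [e4]
  exact ht'H

/-- **(7c), (7d)**: the root pair. -/
theorem root : Root h.Ap h.Ep h.K where
  le := le_sup_left
  comm := h.K_cen
  two := h.Ep_two
  syl R hR hRA hER := h.Ep_syl hR hRA hER
  pair := by
    obtain ⟨a, ha, b, hb, ha1, hb1, hab⟩ := h.Z_pair
    have hm : ∀ {z : G}, z ∈ Z → h.w⁻¹ * z * h.w ∈ h.Ep := by
      intro z hz
      have := conj_mem_cj (g := h.w⁻¹) (h.Z_le_E hz)
      rwa [inv_inv] at this
    have hq : ∀ {z : G}, z ∈ Z → h.w⁻¹ * z * h.w * (h.w⁻¹ * z * h.w) = 1 := by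
      intro z hz
      have e : h.w⁻¹ * z * h.w * (h.w⁻¹ * z * h.w) = h.w⁻¹ * (z * z) * h.w := by group
      rw [e, h.Z_sq z hz]; group
    refine ⟨_, hm ha, _, hm hb, hq ha, hq hb, ?_, ?_, ?_⟩
    · intro h1; apply ha1
      have : a = h.w * (h.w⁻¹ * a * h.w) * h.w⁻¹ := by group
      rw [this, h1]; group
    · intro h1; apply hb1
      have : b = h.w * (h.w⁻¹ * b * h.w) * h.w⁻¹ := by group
      rw [this, h1]; group
    · intro h1; apply hab
      have e1 : a = h.w * (h.w⁻¹ * a * h.w) * h.w⁻¹ := by group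
      rw [e1, h1]; group
  cent u hu huu v hv := by
    have hu' := mem_cj.1 hu
    have hv' := mem_cj.1 hv
    rw [inv_inv] at hu' hv'
    have h1 : h.w * u * h.w⁻¹ ∈ Z := by
      apply h.E_sq hu'
      have e : h.w * u * h.w⁻¹ * (h.w * u * h.w⁻¹) = h.w * (u * u) * h.w⁻¹ := by group
      rw [e, huu]; group
    have h2 := h.Z_cen _ h1 _ (h.mem_E.1 hv').1
    have e1 : u * v = h.w⁻¹ * (h.w * u * h.w⁻¹ * (h.w * v * h.w⁻¹)) * h.w := by group
    have e2 : v * u = h.w⁻¹ * (h.w * v * h.w⁻¹ * (h.w * u * h.w⁻¹)) * h.w := by group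
    rw [e1, e2, h2]
  norm u hu huu hu1 c hc hcA v hv := by
    have hu' := mem_cj.1 hu
    have hv' := mem_cj.1 hv
    rw [inv_inv] at hu' hv'
    have h1 := h.E_norm (c := h.w * c * h.w⁻¹) hu' (by
      have e : h.w * u * h.w⁻¹ * (h.w * u * h.w⁻¹) = h.w * (u * u) * h.w⁻¹ := by group
      rw [e, huu]; group) (by
      intro h1; apply hu1
      have : u = h.w⁻¹ * (h.w * u * h.w⁻¹) * h.w := by group
      rw [this, h1]; group) (by
      have e1 : h.w * c * h.w⁻¹ * (h.w * u * h.w⁻¹) = h.w * (c * u) * h.w⁻¹ := by group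
      have e2 : h.w * u * h.w⁻¹ * (h.w * c * h.w⁻¹) = h.w * (u * c) * h.w⁻¹ := by group
      rw [e1, e2, hc]) (by
      intro a ha
      have h2 := hcA (h.w⁻¹ * a * h.w) (by
        have := conj_mem_cj (g := h.w⁻¹) ha
        rwa [inv_inv] at this)
      have e1 : h.w * c * h.w⁻¹ * a = h.w * (c * (h.w⁻¹ * a * h.w)) * h.w⁻¹ := by group
      have e2 : a * (h.w * c * h.w⁻¹) = h.w * (h.w⁻¹ * a * h.w * c) * h.w⁻¹ := by group
      rw [e1, e2, h2]) _ hv'
    show c * v * c⁻¹ ∈ cj h.w⁻¹ h.E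
    rw [mem_cj, inv_inv]
    have e1 : h.w * (c * v * c⁻¹) * h.w⁻¹ = h.w * c * h.w⁻¹ * (h.w * v * h.w⁻¹) *
        (h.w * c * h.w⁻¹)⁻¹ := by group
    rwa [e1]
  mv := by
    by_contra hcon
    push Not at hcon
    obtain ⟨f, hf, hfB⟩ := h.exists_f
    apply hfB
    have hn : h.Em ≤ normalizer (h.Ep : Set G) := fun g hg =>
      mem_normalizer_of_conj fun v hv => hcon g (mem_sup_right hg) v hv
    have h1 : IsPGroup 2 (h.Em ⊔ h.Ep : Subgroup G) :=
      IsPGroup.to_sup_of_normal_right' h.Em_two h.Ep_two hn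
    have h2 := h.Ep_syl h1 (by
      have h4 : h.Em ⊔ h.Ep ≤ h.K := by rw [sup_comm]; exact le_rfl
      exact fun r hr => h.K_cen r (h4 hr)) le_sup_right
    exact h.S_le (h.Ep_le_S (h2 (mem_sup_left hf)))
  gen := by
    obtain ⟨k, hk, hkv⟩ := exists_conj_le (K := h.K) h.Ep_two
      (fun R hRK hR hER => h.Ep_syl hR (fun r hr => h.K_cen r (hRK hr)) hER) le_sup_left h.Em_two
      (le_sup_right : h.Em ≤ h.K)
    refine sup_le ?_ ?_
    · intro v hv
      exact subset_closure ⟨1, one_mem _, v, hv, by simp⟩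
    · intro v hv
      exact subset_closure ⟨k⁻¹, inv_mem hk, _, hkv v hv, by group⟩

/-- **The braid relation of length 8.** -/
theorem braid (hB : Bender.{u}) : h.frame.Braid 8 := by
  obtain ⟨k, hk, h1, h2⟩ := h.exists_k
  have hkN := h.k_norm hk h1 h2
  refine h.frame.braid_of_root (m := 7) (i := false) hB h.root hk ?_ h.K_le (by decide) ?_
  · exact mem_inf.2 ⟨h1, mul_mem (inv_mem (h.n_norm false)) hkN⟩
  · intro a ha
    have ha' := h.mem_Ap.1 ha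
    rw [h.mem_Ap]
    have e : (alt h.frame.n (!false) 7)⁻¹ * a * alt h.frame.n (!false) 7 =
        (n true * n false * (n true * n false) * (n true * n false) * n true)⁻¹ * a *
          (n true * n false * (n true * n false) * (n true * n false) * n true) := by
      have e1 : alt h.frame.n (!false) 7 =
          n true * n false * (n true * n false) * (n true * n false) * n true := by
        show n true * (n false * (n true * (n false * (n true * (n false * (n true * 1)))))) = _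
        group
      rw [e1]
    have N1 : n true * n false ∈ normalizer (H : Set G) := h.tau_norm
    have N2 := mul_mem N1 N1
    have N3 := mul_mem N2 N1
    rw [e]
    refine ⟨h.H_conj (mul_mem N3 (h.n_norm true)) ha'.1, ?_⟩
    rw [h.x_mul_n N3 ha'.1, h.y_mul_n N3 ha'.1, h.x_mul_tau N2 ha'.1, h.y_mul_tau N2 ha'.1,
      h.x_mul_tau N1 ha'.1, h.y_mul_tau N1 ha'.1, h.x_tau ha'.1, h.y_tau ha'.1]
    linear_combination ha'.2

theorem thick : ∀ i, ∃ b ∈ h.frame.B, h.frame.n i * b * (h.frame.n i)⁻¹ ∉ h.frame.B := by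
  intro i
  obtain ⟨s, hs, hs'⟩ := h.Q_ne i
  refine ⟨s, h.S_le hs, fun hB => hs' ?_⟩
  have hB' : n i * s * (n i)⁻¹ ∈ B := hB
  apply h.Q_max i s hs
  have e1 : (n i)⁻¹ * s * n i = (n i * n i)⁻¹ * (n i * s * (n i)⁻¹) * (n i * n i) := by group
  rw [e1]
  exact mul_mem (mul_mem (inv_mem (h.sq_mem i)) hB') (h.sq_mem i)

/-- **THEOREM 2F4, second half**: `⟨P₀, P₁⟩` has a split BN-pair of rank 2 with Borel subgroup `B`. -/
theorem exists_split (hB : Bender.{u}) {X : Subgroup G} (hX : P false ⊔ P true = X) :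
    ∃ R : Cfsg.BNPair X, R.rank = 2 ∧ R.IsSplit ∧ R.B = B.subgroupOf X ∧
      (∀ g : X, g ∈ R.N ↔ (g : G) ∈ h.frame.N) := by
  have hp : Fact (Nat.Prime 2) := ⟨Nat.prime_two⟩
  exact h.frame.exists_split_sup (m := 8) (h.braid hB) (by norm_num) h.pathTo h.thick S h.S_le
    h.S_nrm h.twoS.isNilpotent h.split hX

end root

end Oct

end Cfsg.Agent.Omega.TwoFFour

end

-- merged: Cfsg.Agent.Mrg.Omega.TwoFFour.Cores
section

section


/-!
# THEOREM 2F4, (3): no odd cores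

* `cenW_two` : `C_G(W)` is a 2-group; `Qx_two`, `inf_K_eq` : `S ⊓ K = K ⊓ C(Z)`, a normal 2-subgroup of `N(Z)`;
* `S_normal` : `S` is normal in `B = N(V) ⊓ N(Z)`;
* `cenV_two`, `cenV_le_S` : `C_G(V)` is a 2-group, contained in `S`.
-/

set_option autoImplicit false
set_option linter.unusedSectionVars false

namespace Cfsg.Agent.Omega.TwoFFour

open Subgroup Matrix
open Cfsg.Agent.ZN Cfsg.Agent.MinSimple.VModule Cfsg.Agent.Lib.SL2Mat
open Cfsg.Agent.LieRecognition.SzMatrix (Good)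
open Cfsg.Agent.Omega.NatPair (NatMod ap ext2)

section tools

variable {G : Type*} [Group G]

theorem mem_normalizer_cen {X : Subgroup G} {g : G} (hg : g ∈ normalizer (X : Set G)) :
    g ∈ normalizer ((centralizer (X : Set G) : Subgroup G) : Set G) := by
  have key : ∀ g ∈ normalizer (X : Set G), ∀ x ∈ centralizer (X : Set G), g * x * g⁻¹ ∈ centralizer (X : Set G) := by
    intro g hg x hx
    rw [mem_centralizer_iff] at hx ⊢
    intro v hv
    have h1 := hx _ ((mem_normalizer_iff.1 (inv_mem hg) v).1 hv)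
    rw [inv_inv] at h1
    calc v * (g * x * g⁻¹) = g * ((g⁻¹ * v * g) * x) * g⁻¹ := by group
      _ = g * (x * (g⁻¹ * v * g)) * g⁻¹ := by rw [h1]
      _ = g * x * g⁻¹ * v := by group
  rw [mem_normalizer_iff]
  refine fun x => ⟨key g hg x, fun hx => ?_⟩
  have := key g⁻¹ (inv_mem hg) _ hx
  have e : g⁻¹ * (g * x * g⁻¹) * g⁻¹⁻¹ = x := by group
  rwa [e] at this

/-- a finite group whose elements of odd order are trivial is a 2-group -/
theorem isPGroup_of_odd [Finite G] {X : Subgroup G} (h : ∀ x ∈ X, Odd (orderOf x) → x = 1) : IsPGroup 2 X := by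
  rintro ⟨x, hx⟩
  have hpos : 0 < orderOf x := orderOf_pos x
  obtain ⟨k, m, hm, e⟩ := Nat.exists_eq_two_pow_mul_odd hpos.ne'
  refine ⟨k, Subtype.ext (h _ (X.pow_mem hx _) ?_)⟩
  have h1 : orderOf (x ^ 2 ^ k) = m := by
    rw [orderOf_pow_of_dvd (by positivity) (by rw [e]; exact dvd_mul_right _ _), e]
    exact Nat.mul_div_cancel_left _ (by positivity)
  show Odd (orderOf (x ^ 2 ^ k))
  rw [h1]
  exact hm

theorem eq_one_of_odd {X : Subgroup G} (h : IsPGroup 2 X) {x : G} (hx : x ∈ X) (ho : Odd (orderOf x)) : x = 1 := by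
  obtain ⟨k, hk⟩ := h ⟨x, hx⟩
  have hk' : x ^ 2 ^ k = 1 := congrArg Subtype.val hk
  have h1 := orderOf_dvd_of_pow_eq_one hk'
  have h2 : Nat.Coprime (orderOf x) (2 ^ k) := Nat.Coprime.pow_right k (Nat.coprime_two_right.2 ho)
  exact orderOf_eq_one_iff.1 (Nat.Coprime.eq_one_of_dvd h2 h1)

/-- `x^4 ∈ X`, `x` of odd order -/
theorem mem_of_pow_four {X : Subgroup G} {x : G} (ho : Odd (orderOf x)) (h4 : x ^ 4 ∈ X) : x ∈ X := by
  have h1 : Nat.Coprime (orderOf x) 4 := by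
    have : (4 : ℕ) = 2 ^ 2 := rfl
    rw [this]
    exact Nat.Coprime.pow_right 2 (Nat.coprime_two_right.2 ho)
  obtain ⟨j, hj⟩ := exists_pow_eq_self_of_coprime h1.symm
  rw [← hj]
  exact X.pow_mem h4 j

theorem normalizer_o2 [Finite G] {X : Subgroup G} {g : G} (hg : g ∈ normalizer (X : Set G)) :
    g ∈ normalizer (o2 X : Set G) := by
  refine mem_normalizer_of_map_le ?_
  refine le_o2 ?_ ((o2_isPGroup X).map _) ?_
  · rintro _ ⟨y, hy, rfl⟩
    exact (mem_normalizer_iff.1 hg y).1 (o2_le X hy)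
  · intro x hx
    refine mem_normalizer_of_map_le ?_
    rintro _ ⟨_, ⟨y, hy, rfl⟩, rfl⟩
    have h1 : g⁻¹ * x * g ∈ X := by
      have := (mem_normalizer_iff.1 (inv_mem hg) x).1 hx
      rwa [inv_inv] at this
    refine ⟨_, (mem_normalizer_iff.1 (le_normalizer_o2 X h1) y).1 hy, ?_⟩
    show g * (g⁻¹ * x * g * y * (g⁻¹ * x * g)⁻¹) * g⁻¹ = x * (g * y * g⁻¹) * x⁻¹
    group

end tools

variable {G : Type*} [Group G]

namespace Sit

variable {F : Type*} [Field F] {θ : F →+* F} {e : ℕ} {H : Good F θ e} {S : Sylow 2 G} {V Z W : Subgroup G}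
variable (h : Sit F H S V Z W)
include h

theorem act_single_of_cen {c : G} (hc : c ∈ centralizer (V : Set G)) (x : F) :
    h.P.act c (Pi.single 0 x) = Pi.single 0 x := by
  obtain ⟨v, hv, hf⟩ := h.exists_V x
  have h1 : (Pi.single 0 x : Fin 4 → F) = h.P.f v := by
    rw [hf]
    apply ext4 <;> simp
  rw [h1, h.P.act_f (h.cen_le_C hc) (h.V_le_W hv), h.cen_comm hc hv, mul_inv_cancel_right]

/-- the action of `c ∈ C(V)` on `W / Z` -/
theorem exists_k {c : G} (hc : c ∈ centralizer (V : Set G)) : ∃ (a b : F) (k : Fˣ),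
    (∀ v, h.P.act c v 3 = (k : F)⁻¹ ^ 2 * v 3) ∧ (∀ v, v 3 = 0 → h.P.act c v 2 = (θ k)⁻¹ * v 2) ∧
    (∀ v, v 2 = 0 → v 3 = 0 → h.P.act c v 1 = θ k * (k : F)⁻¹ ^ 2 * v 1) ∧
    ((k : F) = 1 → h.P.Ind c (H.U a b)) := by
  have := h.finF
  have : Fintype F := Fintype.ofFinite F
  obtain ⟨μ, a, b, k, hμ, hact⟩ := h.P.exists_fix h.one_le (by rw [← Nat.card_eq_fintype_card, h.cardF])
    (h.cen_le_C hc) (h.act_single_of_cen hc)
  have hμ' : (μ : F) = (k : F)⁻¹ := by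
    have : (μ : F) * k = 1 := by rw [← Units.val_mul, hμ, Units.val_one]
    exact eq_inv_of_mul_eq_one_left this
  have hk := k.ne_zero
  have hθk : θ (k : F) ≠ 0 := (map_ne_zero θ).2 hk
  refine ⟨a, b, k, fun v => ?_, fun v h3 => ?_, fun v h2 h3 => ?_, fun h1 v => ?_⟩
  · rw [hact, hμ', mv_mul, mv_U, mv_D]
    simp only [Pi.smul_apply, smul_eq_mul, Matrix.cons_val]
    ring
  · rw [hact, hμ', mv_mul, mv_U, mv_D]
    simp only [Pi.smul_apply, smul_eq_mul, Matrix.cons_val, h3]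
    field_simp
    ring
  · rw [hact, hμ', mv_mul, mv_U, mv_D]
    simp only [Pi.smul_apply, smul_eq_mul, Matrix.cons_val, Matrix.cons_val_one, Matrix.cons_val_zero, h3, h2]
    ring
  · have hk1 : k = 1 := Units.ext h1
    rw [hact, hμ', hk1, Units.val_one, inv_one, one_smul, H.D_one, mul_one]

/-- an element of odd order of `C(V)` acting as some `U a b` lies in `K` -/
theorem mem_K_of_odd {c : G} (hc : c ∈ normalizer (Z : Set G)) (ho : Odd (orderOf c)) {a b : F}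
    (hU : h.P.Ind c (H.U a b)) : c ∈ h.P.K := by
  apply mem_of_pow_four ho
  have h1 : h.P.Ind (c * c) (H.U a b * H.U a b) := hU.mul hc hc hU
  have h2 : h.P.Ind (c * c * (c * c)) (H.U a b * H.U a b * (H.U a b * H.U a b)) :=
    h1.mul (mul_mem hc hc) (mul_mem hc hc) h1
  have e1 : c * c * (c * c) = c ^ 4 := by simp [pow_succ, mul_assoc]
  have e2 : H.U a b * H.U a b * (H.U a b * H.U a b) = 1 := by
    rw [H.U_mul, H.U_mul, H.add_self a, map_zero, mul_zero, add_zero, add_zero, ← H.U_zero]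
    congr 1
    exact H.add_self _
  rw [e1, e2] at h2
  exact (h.P.ind_one_iff (pow_mem hc 4)).1 h2

/-- an element of odd order acting trivially on `W / Z` and `Z` centralises `W` -/
theorem comm_of_odd {c : G} (hc : c ∈ h.P.K) (hcZ : ∀ z ∈ Z, c * z = z * c) (ho : Odd (orderOf c)) {w : G} (hw : w ∈ W) :
    c * w = w * c := by
  have hz := h.K_comm hc hw
  set z := c * w * c⁻¹ * w⁻¹ with hzd
  have h1 : c * w * c⁻¹ = z * w := by rw [hzd]; group
  have key : ∀ j : ℕ, c ^ j * w * (c ^ j)⁻¹ = z ^ j * w := by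
    intro j
    induction j with
    | zero => simp
    | succ j ih =>
      have h2 : Commute c (z ^ j) := (show Commute c z from hcZ z hz).pow_right j
      calc c ^ (j + 1) * w * (c ^ (j + 1))⁻¹ = c * (c ^ j * w * (c ^ j)⁻¹) * c⁻¹ := by rw [pow_succ']; group
        _ = c * z ^ j * w * c⁻¹ := by rw [ih]; group
        _ = z ^ j * (c * w * c⁻¹) := by rw [h2.eq]; group
        _ = z ^ (j + 1) * w := by rw [h1, pow_succ]; group
  have h2 := key (orderOf c)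
  rw [pow_orderOf_eq_one, one_mul, inv_one, mul_one] at h2
  have h3 : z ^ orderOf c = 1 := right_eq_mul.1 h2
  have h4 : z * z = 1 := h.sq z (h.Z_le_W hz)
  obtain ⟨j, hj⟩ := ho
  rw [hj, pow_succ, pow_mul, pow_two, h4, one_pow, one_mul] at h3
  rw [h3, one_mul] at h1
  calc c * w = c * w * c⁻¹ * c := by group
    _ = w * c := by rw [h1]

/-- an element of odd order of `C(W_x)` centralises `W_y` -/
theorem odd_comm [Finite G] {n : G} (hn : h.Sw n) {g : G} (hg : g ∈ centralizer (W : Set G)) (ho : Odd (orderOf g))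
    {w : G} (hw : w ∈ W) : g * (n * w * n⁻¹) = n * w * n⁻¹ * g := by
  have hgV : g ∈ centralizer (V : Set G) := centralizer_le h.V_le_W hg
  have hc : n⁻¹ * g * n ∈ centralizer (V : Set G) := by
    have := h.conjC (inv_mem (h.sw_mem hn)) hgV
    rwa [inv_inv] at this
  have hco : orderOf (n⁻¹ * g * n) = orderOf g := by
    have : n⁻¹ * g * n = MulAut.conj n⁻¹ g := by simp
    rw [this]
    exact orderOf_injective (MulAut.conj n⁻¹).toMonoidHom (MulAut.conj n⁻¹).injective g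
  obtain ⟨a, b, k, -, -, h1, hU⟩ := h.exists_k hc
  -- `c` centralises `I`
  obtain ⟨i, hi, hif⟩ := h.P.f_surj ![0, 1, 0, 0]
  have hiI : i ∈ h.I := ⟨hi, by rw [hif]; rfl, by rw [hif]; rfl⟩
  have h2 := mem_centralizer_iff.1 hg _ (h.I_conj' hn hiI)
  have h3 : n⁻¹ * g * n * i * (n⁻¹ * g * n)⁻¹ = i := by
    calc n⁻¹ * g * n * i * (n⁻¹ * g * n)⁻¹ = n⁻¹ * (g * (n * i * n⁻¹)) * g⁻¹ * n := by group
      _ = n⁻¹ * (n * i * n⁻¹ * g) * g⁻¹ * n := by rw [h2]
      _ = i := by group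
  have h4 := h.f_conj (h.cen_le_C hc) hi
  rw [h3, hif] at h4
  have h5 := h1 ![0, 1, 0, 0] rfl rfl
  rw [← h4] at h5
  have h6 : (k : F) = 1 := by
    apply eq_one_of_theta H k.ne_zero
    have h7 : (1 : F) = θ k * (k : F)⁻¹ ^ 2 * 1 := h5
    have := k.ne_zero
    field_simp at h7
    exact h7.symm
  have h7 := h.mem_K_of_odd (h.cen_le_C hc) (by rw [hco]; exact ho) (hU h6)
  have h8 := h.comm_of_odd h7 (fun z hz => h.cen_comm hc (h.Z_le_V hz)) (by rw [hco]; exact ho) hw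
  calc g * (n * w * n⁻¹) = n * (n⁻¹ * g * n * w) * n⁻¹ := by group
    _ = n * (w * (n⁻¹ * g * n)) * n⁻¹ := by rw [h8]
    _ = n * w * n⁻¹ * g := by group

theorem C_norm_odd : normalizer (Z : Set G) ≤ normalizer (oddGen (centralizer (W : Set G)) : Set G) := fun _ hg =>
  normalizer_le_normalizer_oddGen _ (mem_normalizer_cen (h.C_normW hg))

theorem n_norm_odd [Finite G] {n : G} (hn : h.Sw n) : n ∈ normalizer (oddGen (centralizer (W : Set G)) : Set G) := by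
  refine mem_normalizer_of_map_le ?_
  rw [oddGen_def, MonoidHom.map_closure, closure_le]
  rintro _ ⟨y, ⟨hy, ho⟩, rfl⟩
  refine mem_oddGen ?_ ?_
  · rw [mem_centralizer_iff]
    intro w hw
    show w * (n * y * n⁻¹) = n * y * n⁻¹ * w
    have h1 := h.odd_comm (h.sw_inv hn) hy ho hw
    rw [inv_inv] at h1
    calc w * (n * y * n⁻¹) = n * (n⁻¹ * w * n * y) * n⁻¹ := by group
      _ = n * (y * (n⁻¹ * w * n)) * n⁻¹ := by rw [h1]
      _ = n * y * n⁻¹ * w := by group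
  · have : orderOf ((MulAut.conj n).toMonoidHom y) = orderOf y :=
      orderOf_injective _ (MulAut.conj n).injective y
    rw [this]
    exact ho

theorem M_norm_odd [Finite G] : normalizer (V : Set G) ≤ normalizer (oddGen (centralizer (W : Set G)) : Set G) := by
  intro m hm
  by_cases hmC : m ∈ normalizer (Z : Set G)
  · exact h.C_norm_odd hmC
  · obtain ⟨n, hn⟩ := h.exists_sw
    obtain ⟨s, hs, b, hb, rfl⟩ := h.decomp hn hm hmC
    exact Subgroup.mul_mem _ (Subgroup.mul_mem _ (h.C_norm_odd (h.S_le_C hs)) (h.n_norm_odd hn)) (h.C_norm_odd hb.2)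

theorem cenW_le_C : centralizer (W : Set G) ≤ normalizer (Z : Set G) :=
  (centralizer_le h.V_le_W).trans h.cen_le_C

/-- **`C_G(W)` is a 2-group** -/
theorem cenW_two [Finite G] : IsPGroup 2 (centralizer (W : Set G)) := by
  set O := oddGen (centralizer (W : Set G)) with hO
  have hOC : O ≤ normalizer (Z : Set G) := (oddGen_le _).trans h.cenW_le_C
  have h1 : o2 O = ⊥ := h.nonloc _ ((o2_le O).trans hOC) (o2_isPGroup O)
    (fun g hg => normalizer_o2 (h.M_norm_odd hg)) (fun g hg => normalizer_o2 (h.C_norm_odd hg))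
  set D := o2 (normalizer (Z : Set G)) with hD
  have hDC : D ≤ normalizer (Z : Set G) := o2_le _
  have h2 : O ⊓ D = ⊥ := by
    rw [← le_bot_iff, ← h1]
    refine le_o2 inf_le_left ((o2_isPGroup _).to_le inf_le_right) fun x hx => ?_
    have h3 := le_normalizer (H := O) hx
    have h4 := le_normalizer_o2 _ (hOC hx)
    rw [mem_normalizer_iff] at h3 h4 ⊢
    intro y
    rw [mem_inf, mem_inf, h3 y, h4 y]
  have h3 : O ≤ centralizer (D : Set G) := by
    intro x hx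
    rw [mem_centralizer_iff]
    intro d hd
    have h4 : d * x * d⁻¹ * x⁻¹ ∈ O ⊓ D := by
      refine ⟨O.mul_mem ((mem_normalizer_iff.1 (h.C_norm_odd (hDC hd)) x).1 hx) (O.inv_mem hx), ?_⟩
      have h5 := (mem_normalizer_iff.1 (le_normalizer_o2 _ (hOC hx)) d⁻¹).1 (inv_mem hd)
      have e : d * x * d⁻¹ * x⁻¹ = d * (x * d⁻¹ * x⁻¹) := by group
      rw [e]
      exact mul_mem hd h5
    rw [h2, mem_bot] at h4
    calc d * x = (d * x * d⁻¹ * x⁻¹) * (x * d) := by group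
      _ = x * d := by rw [h4, one_mul]
  have h4 : O ≤ D := (le_inf hOC h3).trans h.char2
  have h5 : O = ⊥ := by rw [← h2]; exact (inf_eq_left.2 h4).symm
  refine isPGroup_of_odd fun x hx ho => ?_
  have : x ∈ O := mem_oddGen hx ho
  rw [h5] at this
  exact mem_bot.1 this

/-! ### `Q_x` -/

/-- elements trivial on `Z` and `W / Z` are 2-elements -/
theorem Qx_two [Finite G] : IsPGroup 2 (h.P.K ⊓ centralizer (Z : Set G) : Subgroup G) := by
  rintro ⟨g, hgK, hgZ⟩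
  have h1 : g * g ∈ centralizer (W : Set G) := by
    rw [mem_centralizer_iff]
    intro w hw
    have hz := h.K_comm hgK hw
    set z := g * w * g⁻¹ * w⁻¹ with hzd
    have h2 : g * w * g⁻¹ = z * w := by rw [hzd]; group
    have h3 : g * z = z * g := (mem_centralizer_iff.1 hgZ z hz).symm
    have h4 : z * z = 1 := h.sq z (h.Z_le_W hz)
    have h5 : g * g * w * (g * g)⁻¹ = w := by
      calc g * g * w * (g * g)⁻¹ = g * (g * w * g⁻¹) * g⁻¹ := by group
        _ = g * z * w * g⁻¹ := by rw [h2]; group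
        _ = z * (g * w * g⁻¹) := by rw [h3]; group
        _ = z * z * w := by rw [h2]; group
        _ = w := by rw [h4, one_mul]
    calc w * (g * g) = g * g * w * (g * g)⁻¹ * (g * g) := by rw [h5]
      _ = g * g * w := by group
  obtain ⟨k, hk⟩ := h.cenW_two ⟨g * g, h1⟩
  have hk' : (g * g) ^ 2 ^ k = 1 := congrArg Subtype.val hk
  refine ⟨k + 1, Subtype.ext ?_⟩
  show g ^ 2 ^ (k + 1) = 1
  rw [pow_succ', pow_mul, pow_two, hk']

theorem C_norm_Qx : normalizer (Z : Set G) ≤ normalizer ((h.P.K ⊓ centralizer (Z : Set G) : Subgroup G) : Set G) := by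
  intro g hg
  have h1 := h.C_normK hg
  have h2 := mem_normalizer_cen hg
  rw [mem_normalizer_iff] at h1 h2 ⊢
  intro x
  rw [mem_inf, mem_inf, h1 x, h2 x]

theorem Qx_le_S [Finite G] : h.P.K ⊓ centralizer (Z : Set G) ≤ (S : Subgroup G) :=
  h.sylC.le_of_normal (inf_le_left.trans h.K_le_C) h.C_norm_Qx h.Qx_two

/-- `S ⊓ K = C_K(Z)` -/
theorem inf_K_eq [Finite G] : (S : Subgroup G) ⊓ h.P.K = h.P.K ⊓ centralizer (Z : Set G) :=
  le_antisymm (le_inf inf_le_right (inf_le_left.trans h.SZ)) (le_inf h.Qx_le_S inf_le_left)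

theorem C_norm_SK [Finite G] : normalizer (Z : Set G) ≤ normalizer (((S : Subgroup G) ⊓ h.P.K : Subgroup G) : Set G) := by
  rw [h.inf_K_eq]
  exact h.C_norm_Qx

/-- `K` normalises `S` -/
theorem K_conj_S [Finite G] {k s : G} (hk : k ∈ h.P.K) (hs : s ∈ S) : k * s * k⁻¹ ∈ S := by
  have hsC := h.S_le_C hs
  have h1 : k * s * k⁻¹ * s⁻¹ ∈ h.P.K ⊓ centralizer (Z : Set G) := by
    refine ⟨?_, ?_⟩
    · have h2 := h.P.conj_mem_K hsC (inv_mem hk)
      have e : k * s * k⁻¹ * s⁻¹ = k * (s * k⁻¹ * s⁻¹) := by group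
      rw [e]
      exact mul_mem hk h2
    · refine mem_centralizer_iff.2 ?_
      intro z hz
      have h3 := h.conjZ (inv_mem hk.1) hz
      rw [inv_inv] at h3
      have h4 := h.S_comm_Z hs hz
      have h5 := h.S_comm_Z hs h3
      have h6 : s⁻¹ * z = z * s⁻¹ := by
        calc s⁻¹ * z = s⁻¹ * (z * s) * s⁻¹ := by group
          _ = s⁻¹ * (s * z) * s⁻¹ := by rw [h4]
          _ = z * s⁻¹ := by group
      symm
      calc k * s * k⁻¹ * s⁻¹ * z = k * s * k⁻¹ * (s⁻¹ * z) := by group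
        _ = k * (s * (k⁻¹ * z * k)) * k⁻¹ * s⁻¹ := by rw [h6]; group
        _ = k * ((k⁻¹ * z * k) * s) * k⁻¹ * s⁻¹ := by rw [h5]
        _ = z * (k * s * k⁻¹ * s⁻¹) := by group
  have h2 := mul_mem (h.Qx_le_S h1) hs
  rwa [inv_mul_cancel_right] at h2

/-- the preimage of `T` in `N(Z)` -/
def TG : Subgroup G where
  carrier := {g | g ∈ normalizer (Z : Set G) ∧ ∃ a b, h.P.Ind g (H.U a b)}
  mul_mem' := by
    rintro x y ⟨hx, a, b, hab⟩ ⟨hy, c, d, hcd⟩
    have := hab.mul hx hy hcd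
    rw [H.U_mul] at this
    exact ⟨mul_mem hx hy, _, _, this⟩
  one_mem' := ⟨one_mem _, 0, 0, by rw [H.U_zero]; exact h.P.ind_one⟩
  inv_mem' := by
    rintro x ⟨hx, a, b, hab⟩
    have := hab.inv hx
    rw [H.U_inv] at this
    exact ⟨inv_mem hx, _, _, this⟩

theorem S_le_TG : (S : Subgroup G) ≤ h.TG := fun _ hs => ⟨h.S_le_C hs, h.Ad.exists_U _ hs⟩

theorem TG_conj [Finite G] {g s : G} (hg : g ∈ h.TG) (hs : s ∈ S) : g * s * g⁻¹ ∈ S := by
  obtain ⟨hgC, a, b, hab⟩ := hg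
  obtain ⟨t, ht, htU⟩ := h.Ad.surj a b
  have htC := h.S_le_C ht
  have hk : t⁻¹ * g ∈ h.P.K := by
    rw [← h.P.ind_one_iff (mul_mem (inv_mem htC) hgC)]
    have := (htU.inv htC).mul (inv_mem htC) hgC hab
    rwa [inv_mul_cancel] at this
  have h1 := mul_mem (mul_mem ht (h.K_conj_S hk hs)) (inv_mem ht)
  have e : t * (t⁻¹ * g * s * (t⁻¹ * g)⁻¹) * t⁻¹ = g * s * g⁻¹ := by group
  rwa [e] at h1

/-- `B` normalises the preimage of `T` -/
theorem B_conj_TG [Finite G] {b s : G} (hb : b ∈ normalizer (V : Set G) ⊓ normalizer (Z : Set G)) (hs : s ∈ h.TG) :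
    b * s * b⁻¹ ∈ h.TG := by
  have := h.finF
  have : Fintype F := Fintype.ofFinite F
  obtain ⟨hsC, c, d, hcd⟩ := hs
  have h3 : h.P.act b (Pi.single 0 1) 3 = 0 := by
    obtain ⟨v, hv, hf⟩ := h.exists_V 1
    have h1 : (Pi.single 0 1 : Fin 4 → F) = h.P.f v := by
      rw [hf]
      apply ext4 <;> simp
    obtain ⟨-, x, hx⟩ := (h.memV _).1 (h.conjV hb.1 hv)
    rw [h1, h.P.act_f hb.2 (h.V_le_W hv), hx]
    rfl
  obtain ⟨μ, a, b', k, σ, hact⟩ := h.P.exists_borel h.one_le (by rw [← Nat.card_eq_fintype_card, h.cardF]) hb.2 h3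
  -- the conjugate of `U c d`
  have hσθ : ∀ x, σ (θ x) = θ (σ x) := fun x => by rw [← H.pow, ← H.pow, map_pow]
  have hσU : ∀ v : Fin 4 → F, (fun i => σ (mv (H.U c d) v i)) = mv (H.U (σ c) (σ d)) (fun i => σ (v i)) := by
    intro v
    rw [mv_U, mv_U]
    apply ext4 <;> simp [hσθ]
  obtain ⟨c', d', hc'd'⟩ : ∃ c' d', H.U a b' * H.D k * H.U (σ c) (σ d) = H.U c' d' * (H.U a b' * H.D k) := by
    have h4 : H.U a b' * H.D k * H.U (σ c) (σ d) = H.U a b' * H.U (σ c * (k : F) ^ 2 * (θ k)⁻¹) (σ d * θ k) * H.D k := by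
      rw [mul_assoc, H.D_mul_U, ← mul_assoc]
    rw [h4]
    set p := σ c * (k : F) ^ 2 * (θ k)⁻¹
    set q := σ d * θ k
    refine ⟨p, q + a * θ p + p * θ a, ?_⟩
    rw [← mul_assoc, H.U_mul, H.U_mul]
    congr 2
    · exact add_comm _ _
    · have := H.add_self (p * θ a)
      linear_combination -this
  refine ⟨mul_mem (mul_mem hb.2 hsC) (inv_mem hb.2), c', d', fun v => ?_⟩
  obtain ⟨u, rfl⟩ : ∃ u, h.P.act b u = v := ⟨h.P.act b⁻¹ v, h.P.act_act_inv hb.2 v⟩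
  rw [h.P.act_mul (mul_mem hb.2 hsC) (inv_mem hb.2), h.P.act_inv_act hb.2, h.P.act_mul hb.2 hsC, hcd, hact, hσU, hact,
    ← mv_mul, hc'd', mv_mul, mv_smul]

theorem sylTG [Finite G] : Syl2 (S : Subgroup G) h.TG := Syl2.of_sylow S h.S_le_TG

/-- every 2-subgroup of the preimage of `T` lies in `S` -/
theorem le_S_of_TG [Finite G] {R : Subgroup G} (hR : R ≤ h.TG) (h2 : IsPGroup 2 R) : R ≤ S := by
  obtain ⟨x, hx, hxR⟩ := h.sylTG.exists_conj_le hR h2
  intro r hr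
  have h1 := h.TG_conj (inv_mem hx) (hxR r hr)
  have e : x⁻¹ * (x * r * x⁻¹) * x⁻¹⁻¹ = r := by group
  rwa [e] at h1

/-- **`S` is normal in `B`** -/
theorem S_normal [Finite G] {b s : G} (hb : b ∈ normalizer (V : Set G) ⊓ normalizer (Z : Set G)) (hs : s ∈ S) :
    b * s * b⁻¹ ∈ S := by
  have h1 : (S : Subgroup G).map (MulAut.conj b).toMonoidHom ≤ h.TG := by
    rintro _ ⟨y, hy, rfl⟩
    exact h.B_conj_TG hb (h.S_le_TG hy)
  exact h.le_S_of_TG h1 (S.isPGroup'.map _) ⟨s, hs, rfl⟩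

/-! ### (3d) -/

theorem I_f_one_congr [Finite G] {n : G} (hn : h.Sw n) {i j : G} (hi : i ∈ h.I) (hj : j ∈ h.I)
    (hij : h.P.f i 1 = h.P.f j 1) : h.P.f (n * i * n⁻¹) 1 = h.P.f (n * j * n⁻¹) 1 := by
  have h1 : i * j⁻¹ ∈ V := by
    rw [h.mem_V_iff (mul_mem hi (inv_mem hj)), h.f_mul hi.1 (inv_mem hj.1), h.f_inv hj.1, Pi.add_apply, hij]
    exact H.add_self _
  have h2 := h.conjV (h.sw_mem hn) h1
  have hi' := h.n_conj_I hn hi
  have hj' := h.n_conj_I hn hj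
  have e : n * (i * j⁻¹) * n⁻¹ = n * i * n⁻¹ * (n * j * n⁻¹)⁻¹ := by group
  rw [e, h.mem_V_iff (mul_mem hi' (inv_mem hj')), h.f_mul hi'.1 (inv_mem hj'.1), h.f_inv hj'.1, Pi.add_apply] at h2
  have := H.add_self (h.P.f (n * j * n⁻¹) 1)
  linear_combination h2 - this

/-- first relation: `I / V` in the two structures -/
theorem rel_one [Finite G] {n : G} (hn : h.Sw n) {c : G} (hc : c ∈ centralizer (V : Set G)) {a₀ a₁ : F}
    (h0 : ∀ v : Fin 4 → F, v 2 = 0 → v 3 = 0 → h.P.act c v 1 = a₀ * v 1)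
    (h1 : ∀ v : Fin 4 → F, v 2 = 0 → v 3 = 0 → h.P.act (n * c * n⁻¹) v 1 = a₁ * v 1) : ∃ σ : F ≃+* F, σ a₀ = a₁ := by
  have := h.finF
  have := h.char_two
  have hcC := h.cen_le_C hc
  have hcC' := h.cen_le_C (h.conjC (h.sw_mem hn) hc)
  have hr : ∀ t : F, h.P.r ![0, t, 0, 0] ∈ h.I := fun t =>
    ⟨h.P.r_mem _, by rw [h.P.f_r]; rfl, by rw [h.P.f_r]; rfl⟩
  have hr1 : ∀ t : F, h.P.f (h.P.r ![0, t, 0, 0]) 1 = t := fun t => by rw [h.P.f_r]; rfl
  refine exists_galois (F' := F) rfl (ψ := fun t => h.P.f (n * h.P.r ![0, t, 0, 0] * n⁻¹) 1) ?_ ?_ ?_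
  · intro s t
    show h.P.f (n * h.P.r ![0, s + t, 0, 0] * n⁻¹) 1 = _
    rw [h.I_f_one_congr hn (hr (s + t)) (mul_mem (hr s) (hr t)) (by
      rw [hr1, h.f_mul (hr s).1 (hr t).1, Pi.add_apply, hr1, hr1])]
    have e : n * (h.P.r ![0, s, 0, 0] * h.P.r ![0, t, 0, 0]) * n⁻¹ =
      n * h.P.r ![0, s, 0, 0] * n⁻¹ * (n * h.P.r ![0, t, 0, 0] * n⁻¹) := by group
    rw [e, h.f_mul (h.n_conj_I hn (hr s)).1 (h.n_conj_I hn (hr t)).1]
    rfl
  · intro s t hst
    have h1 := h.I_f_one_congr (h.sw_inv hn) (h.n_conj_I hn (hr s)) (h.n_conj_I hn (hr t)) hst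
    have e : ∀ x : G, n⁻¹ * (n * x * n⁻¹) * n⁻¹⁻¹ = x := fun x => by group
    rwa [e, e, hr1, hr1] at h1
  · intro t
    have h2 : h.P.f (c * h.P.r ![0, t, 0, 0] * c⁻¹) 1 = a₀ * t := by
      rw [h.f_conj hcC (hr t).1, h0 _ (hr t).2.1 (hr t).2.2, hr1]
    have h3 := h.M_conj_I (h.cen_le_M hc) (hr t)
    show h.P.f (n * h.P.r ![0, a₀ * t, 0, 0] * n⁻¹) 1 = _
    rw [h.I_f_one_congr hn (hr _) h3 (by rw [h2, hr1])]
    have e : n * (c * h.P.r ![0, t, 0, 0] * c⁻¹) * n⁻¹ =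
      n * c * n⁻¹ * (n * h.P.r ![0, t, 0, 0] * n⁻¹) * (n * c * n⁻¹)⁻¹ := by group
    have h4 := h.n_conj_I hn (hr t)
    rw [e, h.f_conj hcC' h4.1, h1 _ h4.2.1 h4.2.2]

/-! ### the pairing -/

omit h in
/-- the pairing `W_y³ × W_x → Z_x` -/
def pg (n x w : G) : G := n * x * n⁻¹ * w * (n * x * n⁻¹)⁻¹ * w⁻¹

/-- the coordinate of an element of `Z` -/
noncomputable def cz (g : G) : F := open Classical in if hh : ∃ c, h.N.e ![c, 0] = g then hh.choose else 0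

theorem e_cz {g : G} (hg : g ∈ Z) : h.N.e ![h.cz g, 0] = g := by
  have hh : ∃ c, h.N.e ![c, 0] = g := (h.memZ g).1 hg
  unfold cz
  rw [dif_pos hh]
  exact hh.choose_spec

theorem cz_mul {g g' : G} (hg : g ∈ Z) (hg' : g' ∈ Z) : h.cz (g * g') = h.cz g + h.cz g' := by
  have h1 := h.e_cz (mul_mem hg hg')
  have h2 : g * g' = h.N.e ![h.cz g + h.cz g', 0] := by
    have h3 := h.e_mul (h.cz g) 0 (h.cz g') 0
    rw [h.e_cz hg, h.e_cz hg', add_zero] at h3
    exact h3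
  nth_rw 2 [h2] at h1
  exact (h.e_inj h1).1

theorem eq_one_of_cz {g : G} (hg : g ∈ Z) (h0 : h.cz g = 0) : g = 1 := by
  rw [← h.e_cz hg, h0, h.e_zero]

theorem pg_mem [Finite G] {n : G} (hn : h.Sw n) {x w : G} (hx : x ∈ W) (hx3 : h.P.f x 3 = 0) (hw : w ∈ W) :
    pg n x w ∈ Z := h.comm_Z hn hx hx3 hw

theorem pg_mul_left [Finite G] {n : G} (hn : h.Sw n) {x x' w : G} (hx : x ∈ W) (hx' : x' ∈ W)
    (hx3' : h.P.f x' 3 = 0) (hw : w ∈ W) : pg n (x * x') w = pg n x w * pg n x' w := by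
  have hz := h.pg_mem hn hx' hx3' hw
  have h1 := h.cen_comm (h.conj_mem_V hn hx) (h.Z_le_V hz)
  have h2 := h.cen_comm (h.W_le_cen hw) (h.Z_le_V hz)
  have e1 : n * x' * n⁻¹ * w * (n * x' * n⁻¹)⁻¹ = pg n x' w * w := by unfold pg; group
  calc pg n (x * x') w = n * x * n⁻¹ * (n * x' * n⁻¹ * w * (n * x' * n⁻¹)⁻¹) * (n * x * n⁻¹)⁻¹ * w⁻¹ := by
        unfold pg; group
    _ = n * x * n⁻¹ * pg n x' w * w * (n * x * n⁻¹)⁻¹ * w⁻¹ := by rw [e1]; group
    _ = pg n x' w * pg n x w := by rw [h1]; unfold pg; group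
    _ = pg n x w * pg n x' w := by
        have hz2 := h.cen_comm (h.conj_mem_V hn hx) (h.Z_le_V hz)
        have h3 : w⁻¹ * pg n x' w = pg n x' w * w⁻¹ := by
          have : Commute w (pg n x' w) := h2
          exact this.inv_left
        have h4 : (n * x * n⁻¹)⁻¹ * pg n x' w = pg n x' w * (n * x * n⁻¹)⁻¹ := by
          have : Commute (n * x * n⁻¹) (pg n x' w) := hz2
          exact this.inv_left
        symm
        calc pg n x w * pg n x' w = n * x * n⁻¹ * w * (n * x * n⁻¹)⁻¹ * (w⁻¹ * pg n x' w) := by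
              conv_lhs => rw [show pg n x w = n * x * n⁻¹ * w * (n * x * n⁻¹)⁻¹ * w⁻¹ from rfl]
              group
          _ = n * x * n⁻¹ * w * ((n * x * n⁻¹)⁻¹ * pg n x' w) * w⁻¹ := by rw [h3]; group
          _ = n * x * n⁻¹ * (w * pg n x' w) * (n * x * n⁻¹)⁻¹ * w⁻¹ := by rw [h4]; group
          _ = (n * x * n⁻¹ * pg n x' w) * w * (n * x * n⁻¹)⁻¹ * w⁻¹ := by rw [h2]; group
          _ = pg n x' w * (n * x * n⁻¹ * w * (n * x * n⁻¹)⁻¹ * w⁻¹) := by rw [hz2]; group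

theorem pg_mul_right [Finite G] {n : G} (hn : h.Sw n) {x w w' : G} (hx : x ∈ W) (hx3 : h.P.f x 3 = 0)
    (hw : w ∈ W) (hw' : w' ∈ W) : pg n x (w * w') = pg n x w * pg n x w' := by
  have hz := h.pg_mem hn hx hx3 hw'
  have h2 := h.cen_comm (h.W_le_cen hw) (h.Z_le_V hz)
  have e1 : n * x * n⁻¹ * w' * (n * x * n⁻¹)⁻¹ * w'⁻¹ = pg n x w' := rfl
  calc pg n x (w * w') = n * x * n⁻¹ * w * (n * x * n⁻¹)⁻¹ * (n * x * n⁻¹ * w' * (n * x * n⁻¹)⁻¹ * w'⁻¹) * w⁻¹ := by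
        unfold pg; group
    _ = n * x * n⁻¹ * w * (n * x * n⁻¹)⁻¹ * (pg n x w' * w⁻¹) := by rw [e1]; group
    _ = n * x * n⁻¹ * w * (n * x * n⁻¹)⁻¹ * (w⁻¹ * pg n x w') := by
        have : Commute w (pg n x w') := h2
        rw [this.inv_left.eq]
    _ = pg n x w * pg n x w' := by
        conv_rhs => rw [show pg n x w = n * x * n⁻¹ * w * (n * x * n⁻¹)⁻¹ * w⁻¹ from rfl]
        group

theorem pg_I [Finite G] {n : G} (hn : h.Sw n) {i w : G} (hi : i ∈ h.I) (hw : w ∈ W) : pg n i w = 1 := by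
  have h1 := h.ab _ (h.I_conj' hn hi) w hw
  unfold pg
  rw [h1]
  group

theorem pg_congr [Finite G] {n : G} (hn : h.Sw n) {x x' w w' : G} (hx : x ∈ W) (hx' : x' ∈ W) (hx3 : h.P.f x 3 = 0)
    (hx3' : h.P.f x' 3 = 0) (h2 : h.P.f x 2 = h.P.f x' 2) (hw : w ∈ W) (hw' : w' ∈ W) (h3 : h.P.f w 3 = h.P.f w' 3) :
    pg n x w = pg n x' w' := by
  have h4 : x * x'⁻¹ ∈ h.I := by
    refine ⟨mul_mem hx (inv_mem hx'), ?_, ?_⟩
    · rw [h.f_mul hx (inv_mem hx'), h.f_inv hx', Pi.add_apply, h2]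
      exact H.add_self _
    · rw [h.f_mul hx (inv_mem hx'), h.f_inv hx', Pi.add_apply, hx3, hx3', add_zero]
  have h5 : h.P.f (w * w'⁻¹) 3 = 0 := by
    rw [h.f_mul hw (inv_mem hw'), h.f_inv hw', Pi.add_apply, h3]
    exact H.add_self _
  have h6 : pg n x' (w * w'⁻¹) = 1 := by
    have := h.comm_one hn hx' hx3' (mul_mem hw (inv_mem hw')) h5
    unfold pg
    rw [this]
    group
  have e1 : x = x * x'⁻¹ * x' := by group
  have e2 : w = w * w'⁻¹ * w' := by group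
  rw [e1, h.pg_mul_left hn h4.1 hx' hx3' hw, h.pg_I hn h4 hw, one_mul]
  nth_rw 1 [e2]
  rw [h.pg_mul_right hn hx' hx3' (mul_mem hw (inv_mem hw')) hw', h6, one_mul]

/-- second relation: the pairing -/
theorem rel_two [Finite G] {n : G} (hn : h.Sw n) {c c' : G} (hc' : c' ∈ centralizer (V : Set G))
    (hcc : n * c' * n⁻¹ = c) {p l : F} (hp : p ≠ 0) (h0 : ∀ v : Fin 4 → F, h.P.act c v 3 = p * v 3)
    (h1 : ∀ v : Fin 4 → F, v 3 = 0 → h.P.act c' v 2 = l * v 2)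
    (h1' : ∀ v : Fin 4 → F, v 3 = 0 → h.P.act c' v 3 = 0) : ∃ τ : F ≃+* F, τ p⁻¹ = l := by
  have := h.finF
  have := h.char_two
  have hc : c ∈ centralizer (V : Set G) := by rw [← hcc]; exact h.conjC (h.sw_mem hn) hc'
  have hcC := h.cen_le_C hc
  have hcC' := h.cen_le_C hc'
  have hx : ∀ y : F, h.P.r ![0, 0, y, 0] ∈ W := fun y => h.P.r_mem _
  have hx2 : ∀ y : F, h.P.f (h.P.r ![0, 0, y, 0]) 2 = y := fun y => by rw [h.P.f_r]; rfl
  have hx3 : ∀ y : F, h.P.f (h.P.r ![0, 0, y, 0]) 3 = 0 := fun y => by rw [h.P.f_r]; rfl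
  have hw : ∀ s : F, h.P.r ![0, 0, 0, s] ∈ W := fun y => h.P.r_mem _
  have hw3 : ∀ s : F, h.P.f (h.P.r ![0, 0, 0, s]) 3 = s := fun y => by rw [h.P.f_r]; rfl
  refine galois_pair (A := F) (Φ := fun s y => h.cz (pg n (h.P.r ![0, 0, y, 0]) (h.P.r ![0, 0, 0, s]))) ?_ ?_ ?_ ?_
  · intro s s' y
    show h.cz _ = h.cz _ + h.cz _
    rw [← h.cz_mul (h.pg_mem hn (hx y) (hx3 y) (hw s)) (h.pg_mem hn (hx y) (hx3 y) (hw s')),
      ← h.pg_mul_right hn (hx y) (hx3 y) (hw s) (hw s')]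
    congr 1
    refine h.pg_congr hn (hx y) (hx y) (hx3 y) (hx3 y) rfl (hw _) (mul_mem (hw s) (hw s')) ?_
    rw [h.f_mul (hw s) (hw s'), Pi.add_apply, hw3, hw3, hw3]
  · intro s y y'
    show h.cz _ = h.cz _ + h.cz _
    rw [← h.cz_mul (h.pg_mem hn (hx y) (hx3 y) (hw s)) (h.pg_mem hn (hx y') (hx3 y') (hw s)),
      ← h.pg_mul_left hn (hx y) (hx y') (hx3 y') (hw s)]
    congr 1
    refine h.pg_congr hn (hx _) (mul_mem (hx y) (hx y')) (hx3 _) ?_ ?_ (hw s) (hw s) rfl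
    · rw [h.f_mul (hx y) (hx y'), Pi.add_apply, hx3, hx3, add_zero]
    · rw [h.f_mul (hx y) (hx y'), Pi.add_apply, hx2, hx2, hx2]
  · intro y hy
    have hI : h.P.r ![0, 0, y, 0] ∈ h.I := by
      refine h.mem_I_of_commute hn (hx y) fun w hwW => ?_
      have h2 := hy (h.P.f w 3)
      have h3 := h.eq_one_of_cz (h.pg_mem hn (hx y) (hx3 y) (hw _)) h2
      rw [h.pg_congr hn (hx y) (hx y) (hx3 y) (hx3 y) rfl (hw _) hwW (hw3 _)] at h3
      have e : n * h.P.r ![0, 0, y, 0] * n⁻¹ * w =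
        pg n (h.P.r ![0, 0, y, 0]) w * (w * (n * h.P.r ![0, 0, y, 0] * n⁻¹)) := by unfold pg; group
      rw [e, h3, one_mul]
    have := hI.2.1
    rwa [hx2] at this
  · intro s y
    show h.cz _ = h.cz _
    congr 1
    -- conjugate by `c`
    set w := h.P.r ![0, 0, 0, p⁻¹ * s] with hwd
    have hwW : w ∈ W := h.P.r_mem _
    have hwf : h.P.f w 3 = p⁻¹ * s := by rw [hwd, hw3]
    have h4 : h.P.f (c' * h.P.r ![0, 0, y, 0] * c'⁻¹) 3 = 0 := by
      rw [h.f_conj hcC' (hx y), h1' _ (hx3 y)]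
    have h5 : h.P.f (c' * h.P.r ![0, 0, y, 0] * c'⁻¹) 2 = l * y := by
      rw [h.f_conj hcC' (hx y), h1 _ (hx3 y), hx2]
    have h6 : h.P.f (c * w * c⁻¹) 3 = s := by
      rw [h.f_conj hcC hwW, h0, hwf, mul_inv_cancel_left₀ hp]
    rw [h.pg_congr hn (hx _) (h.conjW hcC' (hx y)) (hx3 _) h4 (by rw [h5, hx2]) (hw s) (h.conjW hcC hwW)
      (by rw [h6, hw3])]
    have e : pg n (c' * h.P.r ![0, 0, y, 0] * c'⁻¹) (c * w * c⁻¹) = c * pg n (h.P.r ![0, 0, y, 0]) w * c⁻¹ := by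
      unfold pg
      rw [← hcc]
      group
    rw [e, h.cen_comm hc (h.Z_le_V (h.pg_mem hn (hx y) (hx3 y) hwW)), mul_inv_cancel_right]

/-- `c ∈ C(V)` acts on `W / Z` as an element of `T` -/
theorem cen_ind [Finite G] {c : G} (hc : c ∈ centralizer (V : Set G)) : ∃ a b, h.P.Ind c (H.U a b) := by
  have := h.finF
  obtain ⟨n, hn⟩ := h.exists_sw
  have hc' : n * c * n⁻¹ ∈ centralizer (V : Set G) := h.conjC (h.sw_mem hn) hc
  obtain ⟨a, b, k₀, hx3, hx2, hx1, hU⟩ := h.exists_k hc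
  obtain ⟨a', b', k₁, hy3, hy2, hy1, -⟩ := h.exists_k hc'
  refine ⟨a, b, hU ?_⟩
  obtain ⟨σ, hσ⟩ := h.rel_one hn hc hx1 hy1
  have hp : (k₀ : F)⁻¹ ^ 2 ≠ 0 := pow_ne_zero _ (inv_ne_zero k₀.ne_zero)
  obtain ⟨τ, hτ⟩ := h.rel_two (h.sw_inv hn) (c := c) hc' (by group) hp hx3 hy2 (fun v hv => by rw [hy3, hv, mul_zero])
  refine field_end H h.odd_aut k₀.ne_zero k₁.ne_zero σ τ hσ ?_
  rw [← hτ, inv_pow, inv_inv]

/-- **`C_G(V)` is a 2-group** -/
theorem cenV_two [Finite G] : IsPGroup 2 (centralizer (V : Set G)) := by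
  refine isPGroup_of_odd fun c hc ho => ?_
  obtain ⟨a, b, hU⟩ := h.cen_ind hc
  have h1 := h.mem_K_of_odd (h.cen_le_C hc) ho hU
  exact eq_one_of_odd h.Qx_two ⟨h1, h.cen_le_cenZ hc⟩ ho

/-- `C_G(V) ≤ S` -/
theorem cenV_le_S [Finite G] : centralizer (V : Set G) ≤ S :=
  h.sylM.le_of_normal h.cen_le_M h.M_normC h.cenV_two

theorem cenW_le_S [Finite G] : centralizer (W : Set G) ≤ S := (centralizer_le h.V_le_W).trans h.cenV_le_S

theorem up_zero_iff {s : G} : s ∈ centralizer (V : Set G) ↔ h.Up s 0 := ⟨h.up_cen, h.cen_of_up⟩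

end Sit

end Cfsg.Agent.Omega.TwoFFour

end

section


/-!
# THEOREM 2F4: the non-weight fields of `Oct` over `Sit`

`P false = N(Z)`, `P true = N(V)`, `B = N(V) ⊓ N(Z)`, `Q false = S ⊓ K`, `Q true = C(V)`.
`n₁ ∈ N(V) - N(Z)`, `n₀ ∈ N(Z) - N(V)` are arbitrary.
-/

set_option autoImplicit false
set_option linter.unusedSectionVars false

namespace Cfsg.Agent.Omega.TwoFFour

open Subgroup Matrix
open Cfsg.Agent.ZN Cfsg.Agent.MinSimple.VModule Cfsg.Agent.Lib.SL2Mat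
open Cfsg.Agent.LieRecognition.SzMatrix (Good)
open Cfsg.Agent.Omega.NatPair (NatMod ap ext2)

variable {G : Type*} [Group G]

namespace Sit

variable {F : Type*} [Field F] {θ : F →+* F} {e : ℕ} {H : Good F θ e} {S : Sylow 2 G} {V Z W : Subgroup G}
variable (h : Sit F H S V Z W)
include h

/-- the Borel subgroup contains `S` -/
theorem S_le_B : (S : Subgroup G) ≤ normalizer (V : Set G) ⊓ normalizer (Z : Set G) := le_inf h.SV h.S_le_C

/-- `|B : S|` is odd -/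
theorem oddB [Finite G] {b : G} (hb : b ∈ normalizer (V : Set G) ⊓ normalizer (Z : Set G)) :
    ∃ k, Odd k ∧ b ^ k ∈ S := by
  have hpos : 0 < orderOf b := orderOf_pos b
  obtain ⟨k, m, hm, e⟩ := Nat.exists_eq_two_pow_mul_odd hpos.ne'
  refine ⟨m, hm, ?_⟩
  have h1 : IsPGroup 2 (zpowers (b ^ m)) := by
    rintro ⟨x, hx⟩
    obtain ⟨j, rfl⟩ := mem_zpowers_iff.1 hx
    refine ⟨k, Subtype.ext ?_⟩
    show ((b ^ m) ^ j) ^ 2 ^ k = 1
    have h2 : (b ^ m) ^ 2 ^ k = 1 := by rw [← pow_mul, mul_comm, ← e, pow_orderOf_eq_one]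
    rw [← zpow_natCast, ← _root_.zpow_mul, mul_comm j, _root_.zpow_mul, zpow_natCast, h2, _root_.one_zpow]
  obtain ⟨x, hx, hxR⟩ := (Syl2.of_sylow S h.S_le_B).exists_conj_le
    ((zpowers_le (G := G)).2 (Subgroup.pow_mem _ hb m)) h1
  have h2 := hxR _ (mem_zpowers _)
  have h3 := h.S_normal (inv_mem hx) h2
  have e' : x⁻¹ * (x * b ^ m * x⁻¹) * x⁻¹⁻¹ = b ^ m := by group
  rwa [e'] at h3

/-! ### the panel of `x` : lines -/

/-- `w₀` acts on `W / Z` as the antidiagonal matrix -/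
theorem exists_w : ∃ w ∈ normalizer (Z : Set G), h.P.Ind w (Cfsg.Agent.LieRecognition.SzMatrix.W F) :=
  h.P.exists_ind H.W_mem

theorem mem_M_iff_act [Finite G] {g : G} (hg : g ∈ normalizer (Z : Set G)) :
    g ∈ normalizer (V : Set G) ↔ ∀ c : F, ∃ d : F, h.P.act g (Pi.single 0 c) = Pi.single 0 d := by
  constructor
  · intro hgM c
    obtain ⟨v, hv, hf⟩ := h.exists_V c
    obtain ⟨-, d, hd⟩ := (h.memV _).1 (h.conjV hgM hv)
    refine ⟨d, ?_⟩
    have h1 : (Pi.single 0 c : Fin 4 → F) = h.P.f v := by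
      rw [hf]
      apply ext4 <;> simp
    rw [h1, h.P.act_f hg (h.V_le_W hv), hd]
    apply ext4 <;> simp
  · intro hact
    refine mem_normalizer_of_map_le ?_
    rintro _ ⟨v, hv, rfl⟩
    obtain ⟨hvW, c, hc⟩ := (h.memV v).1 hv
    obtain ⟨d, hd⟩ := hact c
    refine (h.memV _).2 ⟨h.conjW hg hvW, d, ?_⟩
    show h.P.f (g * v * g⁻¹) = _
    have h1 : (![c, 0, 0, 0] : Fin 4 → F) = Pi.single 0 c := by
      apply ext4 <;> simp
    rw [h.f_conj hg hvW, hc, h1, hd]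
    apply ext4 <;> simp

theorem w_notin [Finite G] {w : G} (hw : w ∈ normalizer (Z : Set G))
    (hwI : h.P.Ind w (Cfsg.Agent.LieRecognition.SzMatrix.W F)) : w ∉ normalizer (V : Set G) := by
  intro hwM
  obtain ⟨d, hd⟩ := (h.mem_M_iff_act hw).1 hwM 1
  rw [hwI, mv_W] at hd
  have := congrFun hd 3
  simp at this

/-- `N(Z) = B ∪ S w B` -/
theorem decompC [Finite G] {w : G} (hw : w ∈ normalizer (Z : Set G))
    (hwI : h.P.Ind w (Cfsg.Agent.LieRecognition.SzMatrix.W F)) {g : G} (hg : g ∈ normalizer (Z : Set G))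
    (hgM : g ∉ normalizer (V : Set G)) :
    ∃ s ∈ S, ∃ b ∈ normalizer (V : Set G) ⊓ normalizer (Z : Set G), g = s * w * b := by
  have := h.finF
  have : Fintype F := Fintype.ofFinite F
  obtain ⟨μ, A, hA, σ, hact⟩ := h.P.exists_semi h.one_le (by rw [← Nat.card_eq_fintype_card, h.cardF]) hg
  rcases H.bruhat hA with ⟨a, b, k, rfl⟩ | ⟨a, b, c, d, k, rfl⟩
  · exfalso
    apply hgM
    rw [h.mem_M_iff_act hg]
    intro x
    refine ⟨μ * (k * σ x), ?_⟩
    rw [hact, mv_mul, mv_D, mv_U]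
    apply ext4 <;> simp
  · obtain ⟨s, hs, hsU⟩ := h.Ad.surj a b
    have hsC := h.S_le_C hs
    have hsw : (s * w)⁻¹ * g ∈ normalizer (Z : Set G) := mul_mem (inv_mem (mul_mem hsC hw)) hg
    refine ⟨s, hs, (s * w)⁻¹ * g, ⟨(h.mem_M_iff_act hsw).2 fun x => ?_, hsw⟩, by group⟩
    refine ⟨μ * (k * σ x), ?_⟩
    have h1 : h.P.act g (Pi.single 0 x) = h.P.act (s * w) (Pi.single 0 (μ * (k * σ x))) := by
      rw [hact, h.P.act_mul hsC hw, hwI, hsU, ← mv_mul]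
      simp only [mv_mul]
      rw [mv_D, mv_U H c d, ← mv_smul, ← mv_smul]
      congr 2
      apply ext4 <;> simp
    rw [h.P.act_mul (inv_mem (mul_mem hsC hw)) hg, h1, h.P.act_inv_act (mul_mem hsC hw)]

/-! ### the fields -/

/-- `memP true` for every `n₁ ∈ N(V) - N(Z)` -/
theorem memP_true [Finite G] {n₁ : G} (hn : n₁ ∈ normalizer (V : Set G)) (hn' : n₁ ∉ normalizer (Z : Set G)) {g : G} :
    g ∈ normalizer (V : Set G) ↔ g ∈ normalizer (V : Set G) ⊓ normalizer (Z : Set G) ∨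
      ∃ s ∈ S, ∃ c ∈ normalizer (V : Set G) ⊓ normalizer (Z : Set G), g = s * n₁ * c := by
  constructor
  · intro hg
    by_cases hgC : g ∈ normalizer (Z : Set G)
    · exact Or.inl ⟨hg, hgC⟩
    · right
      obtain ⟨n, hnn⟩ := h.exists_sw
      obtain ⟨s, hs, b, hb, e⟩ := h.decomp hnn hg hgC
      obtain ⟨s', hs', b', hb', e'⟩ := h.decomp hnn hn hn'
      refine ⟨s * s'⁻¹, mul_mem hs (inv_mem hs'), b'⁻¹ * b, mul_mem (inv_mem hb') hb, ?_⟩
      rw [e, e']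
      group
  · rintro (hg | ⟨s, hs, c, hc, rfl⟩)
    · exact hg.1
    · exact mul_mem (mul_mem (h.SV hs) hn) hc.1

/-- `memP false` for every `n₀ ∈ N(Z) - N(V)` -/
theorem memP_false [Finite G] {n₀ : G} (hn : n₀ ∈ normalizer (Z : Set G)) (hn' : n₀ ∉ normalizer (V : Set G)) {g : G} :
    g ∈ normalizer (Z : Set G) ↔ g ∈ normalizer (V : Set G) ⊓ normalizer (Z : Set G) ∨
      ∃ s ∈ S, ∃ c ∈ normalizer (V : Set G) ⊓ normalizer (Z : Set G), g = s * n₀ * c := by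
  constructor
  · intro hg
    by_cases hgC : g ∈ normalizer (V : Set G)
    · exact Or.inl ⟨hgC, hg⟩
    · right
      obtain ⟨w, hw, hwI⟩ := h.exists_w
      obtain ⟨s, hs, b, hb, e⟩ := h.decompC hw hwI hg hgC
      obtain ⟨s', hs', b', hb', e'⟩ := h.decompC hw hwI hn hn'
      refine ⟨s * s'⁻¹, mul_mem hs (inv_mem hs'), b'⁻¹ * b, mul_mem (inv_mem hb') hb, ?_⟩
      rw [e, e']
      group
  · rintro (hg | ⟨s, hs, c, hc, rfl⟩)
    · exact hg.2
    · exact mul_mem (mul_mem (h.S_le_C hs) hn) hc.2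

/-- an element of `S` fixing a second point of the line acts trivially on `V` -/
theorem Q_max_true [Finite G] {n₁ : G} (hn : n₁ ∈ normalizer (V : Set G)) (hn' : n₁ ∉ normalizer (Z : Set G)) {s : G}
    (hs : s ∈ S) (hB : n₁⁻¹ * s * n₁ ∈ normalizer (Z : Set G)) : s ∈ centralizer (V : Set G) := by
  obtain ⟨n, hnn⟩ := h.exists_sw
  obtain ⟨s', hs', b', hb', e'⟩ := h.decomp hnn hn hn'
  have hs2 : s'⁻¹ * s * s' ∈ S := mul_mem (mul_mem (inv_mem hs') hs) hs'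
  obtain ⟨a, ha⟩ := h.exists_up hs2
  have h1 : n⁻¹ * (s'⁻¹ * s * s') * n ∈ normalizer (Z : Set G) := by
    have h2 : b' * (n₁⁻¹ * s * n₁) * b'⁻¹ ∈ normalizer (Z : Set G) :=
      Subgroup.mul_mem _ (Subgroup.mul_mem _ hb'.2 hB) (inv_mem hb'.2)
    have e : b' * (n₁⁻¹ * s * n₁) * b'⁻¹ = n⁻¹ * (s'⁻¹ * s * s') * n := by rw [e']; group
    rwa [e] at h2
  have h2 := h.conjZ h1 ((h.e_memZ 1 0).2 rfl)
  have e1 : n⁻¹ * (s'⁻¹ * s * s') * n * h.N.e ![1, 0] * (n⁻¹ * (s'⁻¹ * s * s') * n)⁻¹ =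
      n⁻¹ * ((s'⁻¹ * s * s') * (n * h.N.e ![1, 0] * n⁻¹) * (s'⁻¹ * s * s')⁻¹) * n := by group
  have h3 := h.sw_inv hnn (0 + a * 1) 1
  rw [inv_inv] at h3
  rw [e1, hnn, ha, h3, h.e_memZ, mul_one, zero_add] at h2
  rw [h2] at ha
  have h4 := h.cen_of_up ha
  have h5 := h.conjC (h.SV hs') h4
  have e : s' * (s'⁻¹ * s * s') * s'⁻¹ = s := by group
  rwa [e] at h5

/-- an element of `S` fixing a second line on the point acts trivially on `W / Z` -/
theorem Q_max_false [Finite G] {n₀ : G} (hn : n₀ ∈ normalizer (Z : Set G)) (hn' : n₀ ∉ normalizer (V : Set G)) {s : G}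
    (hs : s ∈ S) (hB : n₀⁻¹ * s * n₀ ∈ normalizer (V : Set G)) : s ∈ h.P.K := by
  obtain ⟨w, hw, hwI⟩ := h.exists_w
  obtain ⟨s', hs', b', hb', e'⟩ := h.decompC hw hwI hn hn'
  have hs2 : s'⁻¹ * s * s' ∈ S := mul_mem (mul_mem (inv_mem hs') hs) hs'
  obtain ⟨a, b, hab⟩ := h.Ad.exists_U _ hs2
  have hC := h.S_le_C hs2
  have h1 : w⁻¹ * (s'⁻¹ * s * s') * w ∈ normalizer (V : Set G) := by
    have h2 : b' * (n₀⁻¹ * s * n₀) * b'⁻¹ ∈ normalizer (V : Set G) :=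
      Subgroup.mul_mem _ (Subgroup.mul_mem _ hb'.1 hB) (inv_mem hb'.1)
    have e : b' * (n₀⁻¹ * s * n₀) * b'⁻¹ = w⁻¹ * (s'⁻¹ * s * s') * w := by rw [e']; group
    rwa [e] at h2
  have hwC : w⁻¹ * (s'⁻¹ * s * s') * w ∈ normalizer (Z : Set G) := mul_mem (mul_mem (inv_mem hw) hC) hw
  obtain ⟨d, hd⟩ := (h.mem_M_iff_act hwC).1 h1 1
  have h2 : h.P.act (w * (w⁻¹ * (s'⁻¹ * s * s') * w)) (Pi.single 0 1) = h.P.act w (Pi.single 0 d) := by
    rw [h.P.act_mul hw hwC, hd]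
  have e1 : w * (w⁻¹ * (s'⁻¹ * s * s') * w) = s'⁻¹ * s * s' * w := by group
  rw [e1, h.P.act_mul hC hw, hwI, hwI, hab, mv_W, mv_W, mv_U] at h2
  have h3 := congrFun h2 2
  have h4 := congrFun h2 1
  simp at h3 h4
  rw [h3, map_zero, mul_zero, add_zero] at h4
  rw [h3, h4, H.U_zero] at hab
  have h5 := (h.P.ind_one_iff hC).1 hab
  have h6 := h.P.conj_mem_K (h.S_le_C hs') h5
  have e : s' * (s'⁻¹ * s * s') * s'⁻¹ = s := by group
  rwa [e] at h6

theorem Q_ne_true [Finite G] : ∃ s ∈ S, s ∉ centralizer (V : Set G) := by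
  obtain ⟨s, hs, hs1⟩ := h.exists_of_up 1
  refine ⟨s, hs, fun hc => ?_⟩
  exact one_ne_zero (h.up_inj hs1 (h.up_cen hc))

theorem Q_ne_false : ∃ s ∈ S, s ∉ (S : Subgroup G) ⊓ h.P.K := by
  obtain ⟨s, hs, hsU⟩ := h.Ad.surj 1 0
  refine ⟨s, hs, fun hc => ?_⟩
  have h1 := (h.P.ind_one_iff (h.S_le_C hs)).2 hc.2
  have h2 := hsU.unique h1
  rw [← H.U_zero] at h2
  exact one_ne_zero (H.U_inj h2).1

theorem Z_pair : ∃ a ∈ Z, ∃ b ∈ Z, a ≠ 1 ∧ b ≠ 1 ∧ a ≠ b := by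
  classical
  have := h.finF
  have : Fintype F := Fintype.ofFinite F
  have h3 : 2 < Fintype.card F := by
    rw [← Nat.card_eq_fintype_card, h.cardF]
    have : 2 ^ (2 * 1 + 1) ≤ 2 ^ (2 * h.mf + 1) := Nat.pow_le_pow_right (by norm_num) (by have := h.one_le; omega)
    omega
  obtain ⟨c, hc⟩ : ∃ c : F, c ∉ ({0, 1} : Finset F) := by
    by_contra hcon
    push Not at hcon
    have h4 : Finset.univ ⊆ ({0, 1} : Finset F) := fun c _ => hcon c
    have h5 := Finset.card_le_card h4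
    have h6 := Finset.card_insert_le (0 : F) {1}
    rw [Finset.card_singleton] at h6
    rw [Finset.card_univ] at h5
    omega
  simp only [Finset.mem_insert, Finset.mem_singleton, not_or] at hc
  have key : ∀ x : F, x ≠ 0 → h.N.e ![x, 0] ≠ 1 := by
    intro x hx hh
    rw [← h.e_zero] at hh
    exact hx (h.e_inj hh).1
  refine ⟨h.N.e ![1, 0], (h.e_memZ _ _).2 rfl, h.N.e ![c, 0], (h.e_memZ _ _).2 rfl, key 1 one_ne_zero, key c hc.1, ?_⟩
  intro hh
  exact hc.2 (h.e_inj hh).1.symm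

theorem Z_norm [Finite G] {g : G} (hg : ∀ z ∈ Z, g * z * g⁻¹ ∈ Z) : g ∈ normalizer (Z : Set G) := by
  refine mem_normalizer_of_map_le ?_
  rintro _ ⟨z, hz, rfl⟩
  exact hg z hz

/-- `Z_two` from characteristic 2 of `C_G(v)` -/
theorem Z_two [Finite G] {v : G} (hv : v ∈ Z)
    (hc : centralizer ({v} : Set G) ⊓ centralizer (o2 (centralizer ({v} : Set G)) : Set G) ≤
      o2 (centralizer ({v} : Set G))) :
    ∃ R : Subgroup G, R ≤ S ∧ Z ≤ R ∧ ∀ c : G, c * v = v * c → ∀ r ∈ R, c * r * c⁻¹ ∈ R := by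
  have hS : (S : Subgroup G) ≤ centralizer ({v} : Set G) := by
    intro s hs
    rw [mem_centralizer_singleton_iff]
    exact h.S_comm_Z hs hv
  have hR : o2 (centralizer ({v} : Set G)) ≤ S :=
    o2_le_of_sylow S.isPGroup' (Syl2.of_sylow S hS).odd
  refine ⟨_, hR, ?_, fun c hcv r hr => ?_⟩
  · refine (le_inf ?_ ?_).trans hc
    · intro z hz
      rw [mem_centralizer_singleton_iff]
      exact h.ab z (h.Z_le_W hz) v (h.Z_le_W hv)
    · intro z hz
      rw [mem_centralizer_iff]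
      intro r hr
      exact h.S_comm_Z (hR hr) hz
  · have : c ∈ centralizer ({v} : Set G) := mem_centralizer_singleton_iff.2 hcv
    exact (mem_normalizer_iff.1 (le_normalizer_o2 _ this) r).1 hr

theorem cenW_le_K [Finite G] : centralizer (W : Set G) ≤ (S : Subgroup G) ⊓ h.P.K := by
  intro c hc
  refine ⟨h.cenW_le_S hc, (h.P.mem_K_iff (h.cenW_le_C hc)).2 fun x hx => ?_⟩
  rw [← mem_centralizer_iff.1 hc x hx, mul_inv_cancel_right, mul_inv_cancel]
  exact one_mem _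

/-- the core of `⟨N(V), N(Z)⟩` in `B` is trivial -/
theorem core [Finite G] {K : Subgroup G} (hK : K ≤ normalizer (Z : Set G))
    (hM : normalizer (V : Set G) ≤ normalizer (K : Set G)) (hC : normalizer (Z : Set G) ≤ normalizer (K : Set G)) :
    K = ⊥ := by
  have h1 : o2 K = ⊥ := h.nonloc _ ((o2_le K).trans hK) (o2_isPGroup K)
    (fun g hg => normalizer_o2 (hM hg)) (fun g hg => normalizer_o2 (hC hg))
  set D := o2 (normalizer (Z : Set G)) with hD
  have hDC : D ≤ normalizer (Z : Set G) := o2_le _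
  have h2 : K ⊓ D = ⊥ := by
    rw [← le_bot_iff, ← h1]
    refine le_o2 inf_le_left ((o2_isPGroup _).to_le inf_le_right) fun x hx => ?_
    have h3 := le_normalizer (H := K) hx
    have h4 := le_normalizer_o2 _ (hK hx)
    rw [mem_normalizer_iff] at h3 h4 ⊢
    intro y
    rw [mem_inf, mem_inf, h3 y, h4 y]
  have h3 : K ≤ centralizer (D : Set G) := by
    intro x hx
    rw [mem_centralizer_iff]
    intro d hd
    have h4 : d * x * d⁻¹ * x⁻¹ ∈ K ⊓ D := by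
      refine ⟨K.mul_mem ((mem_normalizer_iff.1 (hC (hDC hd)) x).1 hx) (K.inv_mem hx), ?_⟩
      have h5 := (mem_normalizer_iff.1 (le_normalizer_o2 _ (hK hx)) d⁻¹).1 (inv_mem hd)
      have e : d * x * d⁻¹ * x⁻¹ = d * (x * d⁻¹ * x⁻¹) := by group
      rw [e]
      exact mul_mem hd h5
    rw [h2, mem_bot] at h4
    calc d * x = (d * x * d⁻¹ * x⁻¹) * (x * d) := by group
      _ = x * d := by rw [h4, one_mul]
  have h4 : K ≤ D := (le_inf hK h3).trans h.char2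
  rw [← h2]
  exact (inf_eq_left.2 h4).symm

end Sit

end Cfsg.Agent.Omega.TwoFFour

end

section


/-!
# THEOREM 2F4: the outputs of (2), (3) in the form used by `Tor`, `Hal`
-/

set_option autoImplicit false
set_option linter.unusedSectionVars false

namespace Cfsg.Agent.Omega.TwoFFour

open Subgroup
open Cfsg.Agent.LieRecognition.SzMatrix (Good)

variable {G : Type*} [Group G]

namespace Sit

variable {F : Type*} [Field F] {θ : F →+* F} {e : ℕ} {H : Good F θ e} {S : Sylow 2 G} {V Z W : Subgroup G}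

theorem out [Finite G] (h : Sit F H S V Z W) : Sit.Out h where
  nrm := by
    intro b hb s hs
    refine h.S_normal (b := b) ?_ hs
    exact hb
  CV := h.cenV_le_S
  KZ := h.Qx_le_S
  fac := by
    intro s hs
    obtain ⟨q, hq, hqK, c, -, hcV, rfl⟩ := h.S_decomp hs
    exact ⟨q, hq, hqK, by rwa [inv_mul_cancel_left]⟩

end Sit

end Cfsg.Agent.Omega.TwoFFour

end

section


/-!
# THEOREM 2F4 (helper279, #12906): the fields `gen₀`, `gen₁`, `omega` of `Oct`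

`n` interchanges the coordinates of `V` (the reflection at the line `u₁`), `m ∈ N(Z)`, `m ∉ N(V)` (a reflection at the
point `u₀`).

* `gen_zero` : `W₂`, `W₋₂` generate a group which is transitive on the lines on `u₀`;
* `gen_one` : `W₋₂ ∩ K` is transitive on the points `≠ u₀` of `u₁`;
* `omega_four` : the involutions of `S / Q₀` come from `Z₄`.
-/

set_option autoImplicit false
set_option linter.unusedSectionVars false

namespace Cfsg.Agent.Omega.TwoFFour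

open Subgroup Matrix
open Cfsg.Agent.ZN Cfsg.Agent.MinSimple.VModule Cfsg.Agent.Lib.SL2Mat
open Cfsg.Agent.LieRecognition.SzMatrix (Good Umat Umat_def Dmat Dmat_def)
open Cfsg.Agent.Omega.NatPair (NatMod ap ext2 cj mem_cj)

variable {G : Type*} [Group G]

namespace Sit

variable {F : Type*} [Field F] {θ : F →+* F} {e : ℕ} {H : Good F θ e} {S : Sylow 2 G} {V Z W : Subgroup G}
variable (h : Sit F H S V Z W)

include h

theorem mem_V_iff' {w : G} : w ∈ V ↔ w ∈ W ∧ ∃ c, h.P.f w = Pi.single 0 c := by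
  rw [h.memV]
  have e1 : ∀ c : F, (Pi.single 0 c : Fin 4 → F) = ![c, 0, 0, 0] := by
    intro c
    apply ext4 <;> simp
  simp only [e1]

/-- an element of `C` fixing the line `F e₀` lies in `N(V)` -/
theorem mem_M_of_single [Finite G] {g : G} (hg : g ∈ normalizer (Z : Set G))
    (hl : ∀ c : F, ∃ d : F, h.P.act g (Pi.single 0 c) = Pi.single 0 d) : g ∈ normalizer (V : Set G) := by
  refine mem_normalizer_of_map_le ?_
  rintro _ ⟨v, hv, rfl⟩
  show g * v * g⁻¹ ∈ V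
  rw [SetLike.mem_coe, h.mem_V_iff'] at hv
  obtain ⟨hvW, c, hc⟩ := hv
  obtain ⟨d, hd⟩ := hl c
  rw [h.mem_V_iff']
  exact ⟨h.conjW hg hvW, d, by rw [h.f_conj hg hvW, hc, hd]⟩

/-- an element of `C` not in `N(V)` moves `F e₀` off the hyperplane `v₃ = 0` -/
theorem three_ne [Finite G] {g : G} (hg : g ∈ normalizer (Z : Set G)) (hgV : g ∉ normalizer (V : Set G)) :
    ∀ c : F, c ≠ 0 → h.P.act g (Pi.single 0 c) 3 ≠ 0 := by
  have := h.finF
  have : Fintype F := Fintype.ofFinite F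
  have hF : Fintype.card F = 2 ^ (2 * h.mf + 1) := by rw [← Nat.card_eq_fintype_card, h.cardF]
  obtain ⟨mu, A, hA, σ, hγ⟩ := h.P.exists_semi h.one_le hF hg
  have hform : ∀ c : F, h.P.act g (Pi.single 0 c) = ((mu : F) * σ c) • mv A (Pi.single 0 1) := by
    intro c
    have e1 : (fun i => σ ((Pi.single 0 c : Fin 4 → F) i)) = σ c • Pi.single 0 1 := by
      apply ext4 <;> simp
    rw [hγ, e1, mv_smul, smul_smul]
  have hA3 : mv A (Pi.single 0 1) 3 ≠ 0 := by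
    intro h3
    obtain ⟨a, b, k, rfl⟩ := exists_ud H hA h3
    apply hgV
    apply h.mem_M_of_single hg
    intro c
    refine ⟨mu * σ c * k, ?_⟩
    rw [hform, mv_ud_zero]
    apply ext4 <;> simp
  intro c hc h3
  rw [hform, Pi.smul_apply, smul_eq_mul] at h3
  refine mul_ne_zero (mul_ne_zero mu.ne_zero ?_) hA3 h3
  exact (map_ne_zero σ).2 hc

variable {n m : G} (hn : h.Sw n) (hm : m ∈ normalizer (Z : Set G)) (hmV : m ∉ normalizer (V : Set G))
include hn hm hmV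

/-- `W₂ = n W n⁻¹` -/
theorem mem_W_two {g : G} : g ∈ cj (n * m) W ↔ ∃ w ∈ W, g = n * w * n⁻¹ := by
  rw [mem_cj]
  constructor
  · intro hg
    refine ⟨n⁻¹ * g * n, ?_, by group⟩
    have h1 := h.conjW hm hg
    have e1 : m * ((n * m)⁻¹ * g * (n * m)) * m⁻¹ = n⁻¹ * g * n := by group
    rwa [e1] at h1
  · rintro ⟨w, hw, rfl⟩
    have h1 := h.conjW' hm hw
    have e1 : (n * m)⁻¹ * (n * w * n⁻¹) * (n * m) = m⁻¹ * w * m := by group
    rwa [e1]

/-- `W₋₂ = m⁻¹ (n W n⁻¹) m` -/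
theorem mem_W_neg {g : G} : g ∈ cj (n * m)⁻¹ W ↔ ∃ w ∈ W, g = m⁻¹ * (n * w * n⁻¹) * m := by
  rw [mem_cj]
  constructor
  · intro hg
    refine ⟨n⁻¹ * (m * g * m⁻¹) * n, ?_, by group⟩
    have h1 := h.conjW' (h.nn_C hn) hg
    have e1 : (n * n)⁻¹ * ((n * m)⁻¹⁻¹ * g * (n * m)⁻¹) * (n * n) = n⁻¹ * (m * g * m⁻¹) * n := by group
    rwa [e1] at h1
  · rintro ⟨w, hw, rfl⟩
    have h1 := h.conjW (h.nn_C hn) hw
    have e1 : (n * m)⁻¹⁻¹ * (m⁻¹ * (n * w * n⁻¹) * m) * (n * m)⁻¹ = n * n * w * (n * n)⁻¹ := by group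
    rwa [e1]

theorem W_two_le_C [Finite G] : cj (n * m) W ≤ normalizer (Z : Set G) := by
  intro g hg
  obtain ⟨w, hw, rfl⟩ := (h.mem_W_two hn hm hmV).1 hg
  exact h.conj_mem_C hn hw

theorem W_neg_le_C [Finite G] : cj (n * m)⁻¹ W ≤ normalizer (Z : Set G) := by
  intro g hg
  obtain ⟨w, hw, rfl⟩ := (h.mem_W_neg hn hm hmV).1 hg
  exact Subgroup.mul_mem _ (Subgroup.mul_mem _ (Subgroup.inv_mem _ hm) (h.conj_mem_C hn hw)) hm

/-- **`gen₀`** -/
theorem gen_zero [Finite G] : ∀ p ∈ normalizer (Z : Set G), ∃ c ∈ cj (n * m) W ⊔ cj (n * m)⁻¹ W,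
    c⁻¹ * p ∈ normalizer (Z : Set G) ⊓ normalizer (V : Set G) := by
  intro p hp
  have := h.finF
  have : Fintype F := Fintype.ofFinite F
  have hF : Fintype.card F = 2 ^ (2 * h.mf + 1) := by rw [← Nat.card_eq_fintype_card, h.cardF]
  have hmi := Subgroup.inv_mem _ hm
  have hmiV : m⁻¹ ∉ normalizer (V : Set G) := fun h1 => hmV (inv_mem_iff.1 h1)
  obtain ⟨mu, A, hA, σ, hγ⟩ := h.P.exists_semi h.one_le hF hmi
  have hX : cj (n * m) W ⊔ cj (n * m)⁻¹ W ≤ normalizer (Z : Set G) :=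
    sup_le (h.W_two_le_C hn hm hmV) (h.W_neg_le_C hn hm hmV)
  have hA3 : mv A (Pi.single 0 1) 3 ≠ 0 := by
    intro h3
    apply h.three_ne hmi hmiV 1 one_ne_zero
    have e1 : (fun i => σ ((Pi.single 0 1 : Fin 4 → F) i)) = Pi.single 0 1 := by
      apply ext4 <;> simp
    rw [hγ, e1, Pi.smul_apply, h3, smul_zero]
  obtain ⟨x, hx, hl⟩ := h.P.gen_trans h.one_le hF hX
    (fun b => by
      obtain ⟨w, hw, hb⟩ := h.bt_surj hn b
      refine ⟨n * w * n⁻¹, mem_sup_left ((h.mem_W_two hn hm hmV).2 ⟨w, hw, rfl⟩), fun v => ?_⟩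
      rw [h.act_bt hn hw, hb]) hA hA3
    (fun b => by
      obtain ⟨w, hw, hb⟩ := h.bt_surj hn (σ.symm b)
      refine ⟨m⁻¹ * (n * w * n⁻¹) * m, mem_sup_right ((h.mem_W_neg hn hm hmV).2 ⟨w, hw, rfl⟩), ?_⟩
      -- conjugation with `m⁻¹`
      have hwC := h.conj_mem_C hn hw
      have key : ∀ v, h.P.act (m⁻¹ * (n * w * n⁻¹) * m) (h.P.act m⁻¹ v) = mv (A * H.U 0 b * A⁻¹) (h.P.act m⁻¹ v) := by
        intro v
        rw [← h.P.act_mul (mul_mem (mul_mem hmi hwC) hm) hmi]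
        have e1 : m⁻¹ * (n * w * n⁻¹) * m * m⁻¹ = m⁻¹ * (n * w * n⁻¹) := by group
        rw [e1, h.P.act_mul hmi hwC, h.act_bt hn hw, hb, hγ, hγ, mv_smul, mv_mul, mv_mul, mv_inv_mv]
        congr 2
        have h5 := fa_U H σ 0 (σ.symm b) v
        rw [map_zero, RingEquiv.apply_symm_apply] at h5
        exact h5
      intro v
      have h5 := key (h.P.act m v)
      rwa [h.P.act_inv_act hm] at h5) hp
  have hxp : x⁻¹ * p ∈ normalizer (Z : Set G) := Subgroup.mul_mem _ (Subgroup.inv_mem _ (hX hx)) hp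
  exact ⟨x, hx, hxp, h.mem_M_of_single hxp hl⟩

/-- `f (m w m⁻¹) 3 ≠ 0` for `w ∈ V`, `w ∉ Z` -/
theorem f_three_ne [Finite G] {v : G} (hv : v ∈ V) (hvZ : v ∉ Z) : h.P.f (m * v * m⁻¹) 3 ≠ 0 := by
  obtain ⟨hvW, c, hc⟩ := h.mem_V_iff'.1 hv
  rw [h.f_conj hm hvW, hc]
  apply h.three_ne hm hmV
  rintro rfl
  apply hvZ
  rw [← h.P.f_ker hvW, hc, Pi.single_zero]

/-- **`omega`** -/
theorem omega_four [Finite G] {s : G} (hs : s ∈ S) (hss : s * s ∈ h.P.K) :
    ∃ z ∈ cj (n * m * n) Z, z ∈ S ∧ z⁻¹ * s ∈ h.P.K := by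
  have := h.finF
  obtain ⟨a, b, hab⟩ := h.Ad.exists_U s hs
  have hsC := h.S_le_C hs
  have ha : a = 0 := by
    apply (U_zero_sq_iff H a b).1
    exact (hab.mul hsC hsC hab).unique ((h.P.ind_one_iff (mul_mem hsC hsC)).2 hss)
  subst ha
  -- `w c = m (n e[c,0] n⁻¹) m⁻¹ ∈ W`
  let w : F → G := fun c => m * (n * h.N.e ![c, 0] * n⁻¹) * m⁻¹
  have hne : ∀ c, n * h.N.e ![c, 0] * n⁻¹ = h.N.e ![0, c] := fun c => hn c 0
  have hwW : ∀ c, w c ∈ W := by
    intro c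
    show m * (n * h.N.e ![c, 0] * n⁻¹) * m⁻¹ ∈ W
    rw [hne]
    exact h.conjW hm (h.V_le_W (h.e_mem _ _))
  have hadd : ∀ c d, w (c + d) = w c * w d := by
    intro c d
    show m * (n * h.N.e ![c + d, 0] * n⁻¹) * m⁻¹ = m * (n * h.N.e ![c, 0] * n⁻¹) * m⁻¹ * (m * (n * h.N.e ![d, 0] * n⁻¹) * m⁻¹)
    rw [hne, hne, hne]
    have h1 := h.e_mul 0 c 0 d
    rw [add_zero] at h1
    rw [← h1]; group
  have hinj : Function.Injective (fun c => h.bt n (w c)) := by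
    intro c d hcd
    by_contra hne'
    have h1 : h.bt n (w (c + d)) = 0 := by
      rw [hadd, h.bt_mul hn (hwW c) (hwW d)]
      have hcd' : h.bt n (w c) = h.bt n (w d) := hcd
      rw [hcd', H.add_self]
    rw [h.bt_iff hn (hwW _)] at h1
    refine h.f_three_ne hn hm hmV (v := n * h.N.e ![c + d, 0] * n⁻¹) ?_ ?_ h1
    · rw [hne]; exact h.e_mem _ _
    · rw [hne, h.e_memZ]
      intro h2
      apply hne'
      have := H.neg_eq d
      rw [← this]
      exact eq_neg_of_add_eq_zero_left h2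
  obtain ⟨c, hc⟩ := Finite.surjective_of_injective hinj b
  have hc : h.bt n (w c) = b := hc
  have hz : n * w c * n⁻¹ ∈ S := (h.conj_mem hn (hwW c)).1
  refine ⟨n * w c * n⁻¹, ?_, hz, ?_⟩
  · rw [mem_cj]
    have e1 : (n * m * n)⁻¹ * (n * w c * n⁻¹) * (n * m * n) = n⁻¹ * (m⁻¹ * w c * m) * n := by group
    have e2 : n⁻¹ * (m⁻¹ * w c * m) * n = h.N.e ![c, 0] := by
      show n⁻¹ * (m⁻¹ * (m * (n * h.N.e ![c, 0] * n⁻¹) * m⁻¹) * m) * n = h.N.e ![c, 0]
      group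
    rw [e1, e2, h.e_memZ]
  · have hzC := h.S_le_C hz
    rw [← h.P.ind_one_iff (mul_mem (inv_mem hzC) hsC)]
    have h1 : h.P.Ind (n * w c * n⁻¹) (H.U 0 b) := by
      intro v
      rw [h.act_bt hn (hwW c), hc]
    have h2 := (h1.inv hzC).mul (inv_mem hzC) hsC hab
    rwa [inv_mul_cancel] at h2

/-- `W₋₂ ⊓ K` centralises `Z` -/
theorem neg_comm_Z [Finite G] {w z : G} (hw : w ∈ W) (hz : z ∈ Z) :
    m⁻¹ * (n * w * n⁻¹) * m * z = z * (m⁻¹ * (n * w * n⁻¹) * m) := by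
  have h1 : m * z * m⁻¹ ∈ Z := h.conjZ hm hz
  have h2 := h.cen_comm (h.conj_mem_V hn hw) (h.Z_le_V h1)
  calc m⁻¹ * (n * w * n⁻¹) * m * z = m⁻¹ * (n * w * n⁻¹ * (m * z * m⁻¹)) * m := by group
    _ = m⁻¹ * (m * z * m⁻¹ * (n * w * n⁻¹)) * m := by rw [h2]
    _ = z * (m⁻¹ * (n * w * n⁻¹) * m) := by group

/-- **`gen₁`** -/
theorem gen_one [Finite G] (hQ : ∀ g ∈ h.P.K, g ∈ centralizer (Z : Set G) → g ∈ S) {s : G} (hs : s ∈ S) :
    ∃ r ∈ cj (n * m)⁻¹ W, r ∈ S ∧ r ∈ h.P.K ∧ r⁻¹ * s ∈ centralizer (V : Set G) := by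
  have := h.finF
  obtain ⟨a, ha⟩ := h.exists_up hs
  -- `w c` with `f (w c) = (0, 0, c, 0)`
  choose w hwW hwf using fun c : F => h.P.f_surj ![0, 0, c, 0]
  let r : F → G := fun c => m⁻¹ * (n * w c * n⁻¹) * m
  have hwK : ∀ c, n * w c * n⁻¹ ∈ h.P.K := fun c => (h.conj_mem_K_iff hn (hwW c)).2 (by rw [hwf]; rfl)
  have hrK : ∀ c, r c ∈ h.P.K := by
    intro c
    have h1 := h.P.conj_mem_K (inv_mem hm) (hwK c)
    rwa [inv_inv] at h1
  have hrZ : ∀ c, r c ∈ centralizer (Z : Set G) := by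
    intro c
    rw [mem_centralizer_iff]
    intro z hz
    exact (h.neg_comm_Z hn hm hmV (hwW c) hz).symm
  have hrS : ∀ c, r c ∈ S := fun c => hQ _ (hrK c) (hrZ c)
  choose β hβ using fun c : F => h.exists_up (hrS c)
  -- if `r c` and `r d` act in the same way then `c = d`
  have hinj : Function.Injective β := by
    intro c d hcd
    have h1 : h.Up (r c * r d) 0 := by
      have := h.up_mul (hβ c) (hβ d)
      rwa [hcd, H.add_self] at this
    have h2 := h.cen_of_up h1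
    -- `x = n (w c * w d) n⁻¹` centralises `m V m⁻¹`
    have hwW2 : w c * w d ∈ W := mul_mem (hwW c) (hwW d)
    have hf2 : h.P.f (w c * w d) = ![0, 0, c + d, 0] := by
      rw [h.f_mul (hwW c) (hwW d), hwf, hwf]
      apply ext4 <;> simp
    have e1 : r c * r d = m⁻¹ * (n * (w c * w d) * n⁻¹) * m := by
      show m⁻¹ * (n * w c * n⁻¹) * m * (m⁻¹ * (n * w d * n⁻¹) * m) = _
      group
    rw [e1] at h2
    have h3 : ∀ v ∈ V, n * (w c * w d) * n⁻¹ * (m * v * m⁻¹) = m * v * m⁻¹ * (n * (w c * w d) * n⁻¹) := by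
      intro v hv
      have h4 := h.cen_comm h2 hv
      calc n * (w c * w d) * n⁻¹ * (m * v * m⁻¹) = m * (m⁻¹ * (n * (w c * w d) * n⁻¹) * m * v) * m⁻¹ := by group
        _ = m * (v * (m⁻¹ * (n * (w c * w d) * n⁻¹) * m)) * m⁻¹ := by rw [h4]
        _ = _ := by group
    -- it centralises `W`
    have h4 : ∀ y ∈ W, n * (w c * w d) * n⁻¹ * y = y * (n * (w c * w d) * n⁻¹) := by
      intro y hy
      -- `y = (m v m⁻¹) y'` with `f y' 3 = 0`
      have h5 : ∃ v ∈ V, h.P.f (m * v * m⁻¹) 3 = h.P.f y 3 := by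
        obtain ⟨v₀, hv₀, hv₀f⟩ := h.exists_V 1
        have hinj3 : Function.Injective (fun c : F => h.P.f (m * h.N.e ![0, c] * m⁻¹) 3) := by
          intro x y hxy
          have hxy : h.P.f (m * h.N.e ![0, x] * m⁻¹) 3 = h.P.f (m * h.N.e ![0, y] * m⁻¹) 3 := hxy
          by_contra hne'
          refine h.f_three_ne hn hm hmV (v := h.N.e ![0, x + y]) (h.e_mem _ _) ?_ ?_
          · rw [h.e_memZ]
            intro h6
            apply hne'
            have := H.neg_eq y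
            rw [← this]
            exact eq_neg_of_add_eq_zero_left h6
          · have e2 : m * h.N.e ![0, x + y] * m⁻¹ = m * h.N.e ![0, x] * m⁻¹ * (m * h.N.e ![0, y] * m⁻¹) := by
              have h1 := h.e_mul 0 x 0 y
              rw [add_zero] at h1
              rw [← h1]; group
            rw [e2, h.f_mul (h.conjW hm (h.V_le_W (h.e_mem _ _))) (h.conjW hm (h.V_le_W (h.e_mem _ _))), Pi.add_apply,
              hxy, H.add_self]
        obtain ⟨c', hc'⟩ := Finite.surjective_of_injective hinj3 (h.P.f y 3)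
        exact ⟨_, h.e_mem _ _, hc'⟩
      obtain ⟨v, hv, hv3⟩ := h5
      have hvW : m * v * m⁻¹ ∈ W := h.conjW hm (h.V_le_W hv)
      have hy' : (m * v * m⁻¹)⁻¹ * y ∈ W := mul_mem (inv_mem hvW) hy
      have hy3 : h.P.f ((m * v * m⁻¹)⁻¹ * y) 3 = 0 := by
        rw [h.f_mul (inv_mem hvW) hy, h.f_inv hvW, Pi.add_apply, hv3, H.add_self]
      have h6 := h.comm_one hn hwW2 (by rw [hf2]; rfl) hy' hy3
      have h7 := h3 v hv
      calc n * (w c * w d) * n⁻¹ * y = (n * (w c * w d) * n⁻¹ * (m * v * m⁻¹)) * ((m * v * m⁻¹)⁻¹ * y) := by group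
        _ = m * v * m⁻¹ * (n * (w c * w d) * n⁻¹ * ((m * v * m⁻¹)⁻¹ * y)) := by rw [h7]; group
        _ = m * v * m⁻¹ * ((m * v * m⁻¹)⁻¹ * y * (n * (w c * w d) * n⁻¹)) := by rw [h6]
        _ = _ := by group
    have h5 := h.mem_I_of_commute hn hwW2 h4
    rw [h.mem_I, hf2] at h5
    have h6 : c + d = 0 := h5.2.1
    have := H.neg_eq d
    rw [← this]
    exact eq_neg_of_add_eq_zero_left h6
  obtain ⟨c, hc⟩ := Finite.surjective_of_injective hinj a
  refine ⟨r c, (h.mem_W_neg hn hm hmV).2 ⟨w c, hwW c, rfl⟩, hrS c, hrK c, ?_⟩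
  apply h.cen_of_up
  have h1 := h.up_mul (h.up_inv (hβ c)) ha
  rwa [hc, H.add_self] at h1

end Sit

end Cfsg.Agent.Omega.TwoFFour

end

section


/-!
# THEOREM 2F4 (helper279, #12906), (4): `Q₀ / F₀` acts linearly; the fields `W_gen`, `O_le`, `fixZ`, `fixO` of `Oct`

* `psi s` : `[s, w] = e (psi s (f w), 0)` for `s ∈ K ⊓ C(Z)`, `w ∈ W`; `psi_add`, `psi_smul`;
* `fix_Z`, `fix_O` : if a torus element `g` of type `(a, l, m, k)` commutes with `s`, then `s` centralises `Z₂` if `l ≠ a`,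
  and `O` if `θ a * θ l ≠ a * (a * l)`;
* `OO` : the preimage of `F e₁` in `W`; `OO_le`, `W_gen`.
-/

set_option autoImplicit false
set_option linter.unusedSectionVars false

namespace Cfsg.Agent.Omega.TwoFFour

open Subgroup Matrix
open Cfsg.Agent.ZN Cfsg.Agent.MinSimple.VModule Cfsg.Agent.Lib.SL2Mat
open Cfsg.Agent.LieRecognition.SzMatrix (Good Umat Umat_def Dmat Dmat_def)
open Cfsg.Agent.Omega.NatPair (NatMod ap ext2 cj mem_cj)

variable {G : Type*} [Group G]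

namespace Sit

variable {F : Type*} [Field F] {θ : F →+* F} {e : ℕ} {H : Good F θ e} {S : Sylow 2 G} {V Z W : Subgroup G}
variable (h : Sit F H S V Z W)

/-- the coordinate of `[s, w]`, `f w = v` -/
noncomputable def psi (s : G) (v : Fin 4 → F) : F := h.cz (s * h.P.r v * s⁻¹ * (h.P.r v)⁻¹)

include h

theorem cz_e (c : F) : h.cz (h.N.e ![c, 0]) = c :=
  (h.e_inj (h.e_cz ((h.e_memZ c 0).2 rfl))).1

theorem cz_one : h.cz 1 = 0 := by
  have := h.cz_e 0
  rwa [h.e_zero] at this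

theorem eq_of_cz {g g' : G} (hg : g ∈ Z) (hg' : g' ∈ Z) (hc : h.cz g = h.cz g') : g = g' := by
  rw [← h.e_cz hg, hc, h.e_cz hg']

theorem vec0 (c : F) : (![c, 0, 0, 0] : Fin 4 → F) = Pi.single 0 c := by
  apply ext4 <;> simp

section fixed

variable {s : G} (hsK : s ∈ h.P.K) (hsZ : s ∈ centralizer (Z : Set G))
include hsK hsZ

theorem comm_memZ {w : G} (hw : w ∈ W) : s * w * s⁻¹ * w⁻¹ ∈ Z := h.K_comm hsK hw

theorem comm_cong {w w' : G} (hw : w ∈ W) (hw' : w' ∈ W) (hf : h.P.f w = h.P.f w') :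
    s * w * s⁻¹ * w⁻¹ = s * w' * s⁻¹ * w'⁻¹ := by
  have h1 : w⁻¹ * w' ∈ Z := (h.P.f_eq_iff hw hw').1 hf
  have h2 : w⁻¹ * w' * s = s * (w⁻¹ * w') := mem_centralizer_iff.1 hsZ _ h1
  calc s * w * s⁻¹ * w⁻¹ = s * w * s⁻¹ * (w⁻¹ * w') * w'⁻¹ := by group
    _ = s * w * s⁻¹ * (w⁻¹ * w' * s) * s⁻¹ * w'⁻¹ := by group
    _ = s * w * s⁻¹ * (s * (w⁻¹ * w')) * s⁻¹ * w'⁻¹ := by rw [h2]
    _ = _ := by group

/-- `[s, w] = e (psi s (f w), 0)` -/
theorem comm_eq {w : G} (hw : w ∈ W) : s * w * s⁻¹ * w⁻¹ = h.N.e ![h.psi s (h.P.f w), 0] := by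
  unfold psi
  rw [h.e_cz (h.comm_memZ hsK hsZ (h.P.r_mem _))]
  exact h.comm_cong hsK hsZ hw (h.P.r_mem _) (h.P.f_r _).symm

theorem psi_eq {w : G} (hw : w ∈ W) : h.psi s (h.P.f w) = h.cz (s * w * s⁻¹ * w⁻¹) := by
  rw [h.comm_eq hsK hsZ hw, h.cz_e]

theorem psi_add (v v' : Fin 4 → F) : h.psi s (v + v') = h.psi s v + h.psi s v' := by
  obtain ⟨w, hw, rfl⟩ := h.P.f_surj v
  obtain ⟨w', hw', rfl⟩ := h.P.f_surj v'
  rw [← h.P.f_mul hw hw', h.psi_eq hsK hsZ (mul_mem hw hw'), h.psi_eq hsK hsZ hw, h.psi_eq hsK hsZ hw']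
  have h1 := h.comm_memZ hsK hsZ hw
  have h2 := h.comm_memZ hsK hsZ hw'
  rw [← h.cz_mul h1 h2]
  congr 1
  have h3 : s * w' * s⁻¹ * w'⁻¹ * w⁻¹ = w⁻¹ * (s * w' * s⁻¹ * w'⁻¹) :=
    h.ab _ (h.Z_le_W h2) _ (inv_mem hw)
  calc s * (w * w') * s⁻¹ * (w * w')⁻¹ = s * w * s⁻¹ * (s * w' * s⁻¹ * w'⁻¹ * w⁻¹) := by group
    _ = s * w * s⁻¹ * (w⁻¹ * (s * w' * s⁻¹ * w'⁻¹)) := by rw [h3]
    _ = _ := by group

theorem psi_zero : h.psi s 0 = 0 := by
  have := h.psi_add hsK hsZ 0 0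
  rw [add_zero] at this
  exact left_eq_add.1 this

theorem psi_neg (v : Fin 4 → F) : h.psi s (-v) = -h.psi s v := by
  have := h.psi_add hsK hsZ (-v) v
  rw [neg_add_cancel, h.psi_zero hsK hsZ] at this
  exact eq_neg_of_add_eq_zero_left this.symm

/-- `s` centralises `w` iff `psi` vanishes -/
theorem psi_eq_zero_iff {w : G} (hw : w ∈ W) : h.psi s (h.P.f w) = 0 ↔ s * w = w * s := by
  constructor
  · intro h1
    have h2 := h.comm_eq hsK hsZ hw
    rw [h1, h.e_zero] at h2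
    rw [mul_inv_eq_one, mul_inv_eq_iff_eq_mul] at h2
    exact h2
  · intro h1
    rw [h.psi_eq hsK hsZ hw, h1]
    have e1 : w * s * s⁻¹ * w⁻¹ = 1 := by group
    rw [e1, h.cz_one]

/-- conjugation with an element `g ∈ C(Z)` -/
theorem psi_conj {g : G} (hg : g ∈ centralizer (Z : Set G)) (v : Fin 4 → F) :
    h.psi (g * s * g⁻¹) (h.P.act g v) = h.psi s v := by
  have hgC := h.cZ_le hg
  obtain ⟨w, hw, rfl⟩ := h.P.f_surj v
  have h1 : g * s * g⁻¹ ∈ h.P.K := h.P.conj_mem_K hgC hsK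
  have h2 : g * s * g⁻¹ ∈ centralizer (Z : Set G) := h.C_norm_cZ hgC hsZ
  rw [h.P.act_f hgC hw, h.psi_eq h1 h2 (h.conjW hgC hw), h.psi_eq hsK hsZ hw]
  congr 1
  have h3 := mem_centralizer_iff.1 hg _ (h.comm_memZ hsK hsZ hw)
  calc g * s * g⁻¹ * (g * w * g⁻¹) * (g * s * g⁻¹)⁻¹ * (g * w * g⁻¹)⁻¹
      = g * (s * w * s⁻¹ * w⁻¹) * g⁻¹ := by group
    _ = s * w * s⁻¹ * w⁻¹ := by rw [← h3]; group

/-- conjugation with a torus element -/
theorem psi_tor {g : G} {a l m k : Fˣ} (t : Tor h g a l m k) (v : Fin 4 → F) :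
    h.psi (g * s * g⁻¹) (h.P.act g v) = a * h.psi s v := by
  have hgC := t.memB.2
  obtain ⟨w, hw, rfl⟩ := h.P.f_surj v
  have h1 : g * s * g⁻¹ ∈ h.P.K := h.P.conj_mem_K hgC hsK
  have h2 : g * s * g⁻¹ ∈ centralizer (Z : Set G) := h.C_norm_cZ hgC hsZ
  rw [h.P.act_f hgC hw, h.psi_eq h1 h2 (h.conjW hgC hw)]
  have e1 : g * s * g⁻¹ * (g * w * g⁻¹) * (g * s * g⁻¹)⁻¹ * (g * w * g⁻¹)⁻¹ = g * (s * w * s⁻¹ * w⁻¹) * g⁻¹ := by
    group
  rw [e1, h.comm_eq hsK hsZ hw, t.V, mul_zero, h.cz_e]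

end fixed

/-- every element of `Sz` is induced by an element of `C(Z)` -/
theorem exists_cZ [Finite G] {A : GL (Fin 4) F} (hA : A ∈ Cfsg.Lie.Sz F e) :
    ∃ g ∈ centralizer (Z : Set G), h.P.Ind g A := by
  rcases H.bruhat hA with ⟨a, b, k, rfl⟩ | ⟨a, b, c, d, k, rfl⟩
  · exact h.ind_mul (h.ind_U a b) (h.exists_cZ_D k)
  · exact h.ind_mul (h.ind_mul (h.ind_U a b) h.exists_cZ_W) (h.ind_mul (h.ind_U c d) (h.exists_cZ_D k))

theorem phi_surj [Finite G] : Function.Surjective h.phi := by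
  have := h.finF
  exact Finite.surjective_of_injective h.phi_inj

/-- linearity on the line `F e₀` -/
theorem psi_single [Finite G] {s : G} (hsK : s ∈ h.P.K) (hsZ : s ∈ centralizer (Z : Set G)) (c x : F) :
    h.psi s (Pi.single 0 (h.sig c * x)) = c * h.psi s (Pi.single 0 x) := by
  obtain ⟨y, rfl⟩ := h.phi_surj x
  have hsS : s ∈ S := h.Qx_le_S ⟨hsK, hsZ⟩
  obtain ⟨b, hb⟩ := h.exists_up hsS
  have key : ∀ y, h.psi s (Pi.single 0 (h.phi y)) = b * y := by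
    intro y
    have h1 : h.P.f (h.N.e ![0, y]) = Pi.single 0 (h.phi y) := by rw [h.f_e, h.vec0]
    have hW : h.N.e ![0, y] ∈ W := h.V_le_W (h.e_mem _ _)
    rw [← h1, h.psi_eq hsK hsZ hW, hb]
    have h2 : (h.N.e ![0, y])⁻¹ = h.N.e ![0, y] := inv_eq_of_mul_eq_one_left (h.sq _ hW)
    rw [h2, h.e_mul, H.add_self, zero_add, add_zero, h.cz_e]
  rw [← h.phi_mul, key, key]
  ring

/-- **`Q₀ / F₀` acts linearly**: `psi s` is linear with respect to the field structure `sig` -/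
theorem psi_smul [Finite G] {s : G} (hsK : s ∈ h.P.K) (hsZ : s ∈ centralizer (Z : Set G)) (c : F) (v : Fin 4 → F) :
    h.psi s (h.sig c • v) = c * h.psi s v := by
  let X : AddSubgroup (Fin 4 → F) :=
    { carrier := {v | h.psi s (h.sig c • v) = c * h.psi s v}
      add_mem' := by
        intro v w hv hw
        show h.psi s (h.sig c • (v + w)) = c * h.psi s (v + w)
        rw [smul_add, h.psi_add hsK hsZ, h.psi_add hsK hsZ, show h.psi s (h.sig c • v) = _ from hv,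
          show h.psi s (h.sig c • w) = _ from hw, mul_add]
      zero_mem' := by
        show h.psi s (h.sig c • 0) = c * h.psi s 0
        rw [smul_zero, h.psi_zero hsK hsZ, mul_zero]
      neg_mem' := by
        intro v hv
        show h.psi s (h.sig c • (-v)) = c * h.psi s (-v)
        rw [smul_neg, h.psi_neg hsK hsZ, h.psi_neg hsK hsZ, show h.psi s (h.sig c • v) = _ from hv, mul_neg] }
  have hX : X = ⊤ := by
    refine span_lines H X fun A hA x => ?_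
    obtain ⟨g, hg, hgA⟩ := h.exists_cZ hA
    show h.psi s (h.sig c • mv A (Pi.single 0 x)) = c * h.psi s (mv A (Pi.single 0 x))
    have hgC := h.cZ_le hg
    have h1 : g⁻¹ * s * g⁻¹⁻¹ ∈ h.P.K := h.P.conj_mem_K (inv_mem hgC) hsK
    have h2 : g⁻¹ * s * g⁻¹⁻¹ ∈ centralizer (Z : Set G) := h.C_norm_cZ (inv_mem hgC) hsZ
    have h3 : ∀ v, h.psi s (mv A v) = h.psi (g⁻¹ * s * g⁻¹⁻¹) v := by
      intro v
      have h4 := h.psi_conj h1 h2 hg v
      have e1 : g * (g⁻¹ * s * g⁻¹⁻¹) * g⁻¹ = s := by group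
      rw [e1, hgA] at h4
      exact h4
    have h4 : h.sig c • (Pi.single 0 x : Fin 4 → F) = Pi.single 0 (h.sig c * x) := by
      apply ext4 <;> simp
    rw [← mv_smul, h3, h3, h4]
    exact h.psi_single h1 h2 c x
  have : v ∈ X := by rw [hX]; exact AddSubgroup.mem_top v
  exact this

/-- a torus element commuting with `s` -/
theorem psi_fix [Finite G] {s : G} (hsK : s ∈ h.P.K) (hsZ : s ∈ centralizer (Z : Set G)) {g : G} {a l m k : Fˣ}
    (t : Tor h g a l m k) (hc : g * s = s * g) {v : Fin 4 → F} {d : F} (hv : h.P.act g v = h.sig d • v) (hd : d ≠ a) :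
    h.psi s v = 0 := by
  have h1 := h.psi_tor hsK hsZ t v
  have e1 : g * s * g⁻¹ = s := by rw [hc, mul_inv_cancel_right]
  rw [e1, hv, h.psi_smul hsK hsZ] at h1
  have h2 : (d - a) * h.psi s v = 0 := by rw [sub_mul, h1, sub_self]
  exact (mul_eq_zero.1 h2).resolve_left (sub_ne_zero.2 hd)

/-- **`fixZ`** -/
theorem fix_Z' [Finite G] {n : G} (hn : h.Sw n) {s : G} (hsK : s ∈ h.P.K) (hsZ : s ∈ centralizer (Z : Set G)) {g : G}
    {a l m k : Fˣ} (t : Tor h g a l m k) (hc : g * s = s * g) (hla : l ≠ a) : ∀ z ∈ cj n Z, s * z = z * s := by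
  intro z hz
  obtain ⟨c, hc'⟩ := (h.memZ _).1 (mem_cj.1 hz)
  have hz' : z = h.N.e ![0, c] := by
    have := hn c 0
    rw [hc'] at this
    rw [← this]; group
  rw [hz']
  have hW : h.N.e ![0, c] ∈ W := h.V_le_W (h.e_mem _ _)
  rw [← h.psi_eq_zero_iff hsK hsZ hW]
  refine h.psi_fix hsK hsZ t hc (d := l) ?_ (fun h1 => hla (Units.ext h1))
  rw [h.f_e, t.W, mv_D, t.rel]
  apply ext4 <;> simp [mul_assoc]

/-- the preimage of `F e₁` -/
def OO : Subgroup G where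
  carrier := {g | g ∈ W ∧ h.P.f g 0 = 0 ∧ h.P.f g 2 = 0 ∧ h.P.f g 3 = 0}
  mul_mem' := by
    rintro x y ⟨hx, hx0, hx2, hx3⟩ ⟨hy, hy0, hy2, hy3⟩
    refine ⟨mul_mem hx hy, ?_, ?_, ?_⟩ <;> rw [h.P.f_mul hx hy, Pi.add_apply]
    · rw [hx0, hy0, add_zero]
    · rw [hx2, hy2, add_zero]
    · rw [hx3, hy3, add_zero]
  one_mem' := by
    refine ⟨one_mem _, ?_, ?_, ?_⟩ <;> rw [h.P.f_one] <;> rfl
  inv_mem' := by
    rintro x ⟨hx, hx0, hx2, hx3⟩
    refine ⟨inv_mem hx, ?_, ?_, ?_⟩ <;> rw [h.P.f_inv hx, Pi.neg_apply]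
    · rw [hx0, neg_zero]
    · rw [hx2, neg_zero]
    · rw [hx3, neg_zero]

theorem mem_OO {g : G} : g ∈ h.OO ↔ g ∈ W ∧ h.P.f g 0 = 0 ∧ h.P.f g 2 = 0 ∧ h.P.f g 3 = 0 := Iff.rfl

theorem OO_le_I : h.OO ≤ h.I := fun _ hg => ⟨hg.1, hg.2.2⟩

/-- **`O_le`** -/
theorem OO_le [Finite G] {n : G} (hn : h.Sw n) : h.OO ≤ cj n W := by
  intro g hg
  rw [mem_cj]
  exact h.I_conj hn (h.OO_le_I hg)

/-- **`fixO`** -/
theorem fix_O' [Finite G] {s : G} (hsK : s ∈ h.P.K) (hsZ : s ∈ centralizer (Z : Set G)) {g : G}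
    {a l m k : Fˣ} (t : Tor h g a l m k) (hc : g * s = s * g) (hla : (m : F) * (θ k * (k : F)⁻¹) ≠ h.sig a) :
    ∀ z ∈ h.OO, s * z = z * s := by
  intro z hz
  obtain ⟨hzW, h0, h2, h3⟩ := hz
  rw [← h.psi_eq_zero_iff hsK hsZ hzW]
  -- `m θ(k) / k = sig d`
  obtain ⟨d, hd⟩ := h.sig.surjective ((m : F) * (θ k * (k : F)⁻¹))
  refine h.psi_fix hsK hsZ t hc (d := d) ?_ ?_
  · rw [hd, t.W, mv_D]
    apply ext4
    · show (m : F) * (k * h.P.f z 0) = m * (θ k * (k : F)⁻¹) * h.P.f z 0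
      rw [h0]; ring
    · show (m : F) * (θ k * (k : F)⁻¹ * h.P.f z 1) = m * (θ k * (k : F)⁻¹) * h.P.f z 1
      ring
    · show (m : F) * (k * (θ k)⁻¹ * h.P.f z 2) = m * (θ k * (k : F)⁻¹) * h.P.f z 2
      rw [h2]; ring
    · show (m : F) * ((k : F)⁻¹ * h.P.f z 3) = m * (θ k * (k : F)⁻¹) * h.P.f z 3
      rw [h3]; ring
  · rintro rfl
    exact hla hd.symm

/-- the scalar of `g` on `F e₁` -/
theorem scal_O [Finite G] (o : Out h) {g : G} {a l m k : Fˣ} (t : Tor h g a l m k) :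
    (m : F) * (θ k * (k : F)⁻¹) * h.sig (a * l) = h.sig (θ (a : F) * θ (l : F)) := by
  have h4 := t.rel
  have h5 := o.rel2 t
  have h6 : θ (m : F) = h.sig a := by
    have h7 : θ (m : F) ^ 2 = h.sig a ^ 2 := by
      rw [← map_pow, h5, ← aut_theta H, H.sq, map_pow]
    have h8 : (θ (m : F) - h.sig a) ^ 2 = 0 := by
      have := H.two
      linear_combination h7 + (h.sig a ^ 2 - θ (m : F) * h.sig a) * this
    exact sub_eq_zero.1 (pow_eq_zero_iff two_ne_zero |>.1 h8)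
  rw [map_mul, map_mul, aut_theta H h.sig (l : F), h4, map_mul, h6, ← h5]
  have hk := k.ne_zero
  field_simp

/-- **`fixO`** -/
theorem fix_O [Finite G] (o : Out h) {s : G} (hsK : s ∈ h.P.K) (hsZ : s ∈ centralizer (Z : Set G)) {g : G}
    {a l m k : Fˣ} (t : Tor h g a l m k) (hc : g * s = s * g) (hla : θ (a : F) * θ (l : F) ≠ a * (a * l)) :
    ∀ z ∈ h.OO, s * z = z * s := by
  refine h.fix_O' hsK hsZ t hc fun h1 => hla ?_
  have h2 := h.scal_O o t
  rw [h1, ← map_mul] at h2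
  exact (h.sig.injective h2).symm

/-- **`W_gen`** -/
theorem W_gen [Finite G] {n₀ n₁ : G} (hn : h.Sw n₁) (hC : n₀ ∈ normalizer (Z : Set G))
    (hW : h.P.Ind n₀ (Cfsg.Agent.LieRecognition.SzMatrix.W F)) :
    W ≤ Z ⊔ cj n₁ Z ⊔ cj (n₀ * n₁) Z ⊔ h.OO ⊔ cj n₀ h.OO := by
  intro w hw
  obtain ⟨c, hc⟩ := h.phi_surj (h.P.f w 0)
  obtain ⟨c', hc'⟩ := h.phi_surj (h.P.f w 3)
  obtain ⟨o, ho, hof⟩ := h.P.f_surj ![0, h.P.f w 1, 0, 0]
  obtain ⟨o', ho', hof'⟩ := h.P.f_surj ![0, h.P.f w 2, 0, 0]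
  have hO : o ∈ h.OO := ⟨ho, by rw [hof]; rfl, by rw [hof]; rfl, by rw [hof]; rfl⟩
  have hO' : o' ∈ h.OO := ⟨ho', by rw [hof']; rfl, by rw [hof']; rfl, by rw [hof']; rfl⟩
  have hZ2 : ∀ c, h.N.e ![0, c] ∈ cj n₁ Z := by
    intro c
    rw [mem_cj, ← hn c 0]
    have e1 : n₁⁻¹ * (n₁ * h.N.e ![c, 0] * n₁⁻¹) * n₁ = h.N.e ![c, 0] := by group
    rw [e1, h.e_memZ]
  have hZ2' : n₀ * h.N.e ![0, c'] * n₀⁻¹ ∈ cj (n₀ * n₁) Z := by
    have h1 := hZ2 c'
    rw [mem_cj] at h1 ⊢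
    have e1 : (n₀ * n₁)⁻¹ * (n₀ * h.N.e ![0, c'] * n₀⁻¹) * (n₀ * n₁) = n₁⁻¹ * h.N.e ![0, c'] * n₁ := by group
    rwa [e1]
  have hOO' : n₀ * o' * n₀⁻¹ ∈ cj n₀ h.OO := by
    rw [mem_cj]
    have e1 : n₀⁻¹ * (n₀ * o' * n₀⁻¹) * n₀ = o' := by group
    rwa [e1]
  have hm1 : h.N.e ![0, c] ∈ W := h.V_le_W (h.e_mem _ _)
  have hm2 : n₀ * h.N.e ![0, c'] * n₀⁻¹ ∈ W := h.conjW hC (h.V_le_W (h.e_mem _ _))
  have hm4 : n₀ * o' * n₀⁻¹ ∈ W := h.conjW hC ho'
  set p := h.N.e ![0, c] * (n₀ * h.N.e ![0, c'] * n₀⁻¹) * o * (n₀ * o' * n₀⁻¹) with hp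
  have hpW : p ∈ W := mul_mem (mul_mem (mul_mem hm1 hm2) ho) hm4
  have hpf : h.P.f w = h.P.f p := by
    rw [hp, h.P.f_mul (mul_mem (mul_mem hm1 hm2) ho) hm4, h.P.f_mul (mul_mem hm1 hm2) ho, h.P.f_mul hm1 hm2,
      h.f_conj hC ho', h.f_conj hC (h.V_le_W (h.e_mem _ _)), hW, hW, h.f_e, h.f_e, hof, hof', hc, hc', mv_W, mv_W]
    apply ext4 <;> simp
  have h1 : w⁻¹ * p ∈ Z := (h.P.f_eq_iff hw hpW).1 hpf
  have e1 : w = p * (w⁻¹ * p)⁻¹ := by group
  rw [e1]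
  refine mul_mem (mul_mem (mul_mem (mul_mem ?_ ?_) ?_) ?_) (inv_mem ?_)
  · exact mem_sup_left (mem_sup_left (mem_sup_left (mem_sup_right (hZ2 c))))
  · exact mem_sup_left (mem_sup_left (mem_sup_right hZ2'))
  · exact mem_sup_left (mem_sup_right hO)
  · exact mem_sup_right hOO'
  · exact mem_sup_left (mem_sup_left (mem_sup_left (mem_sup_left h1)))

end Sit

end Cfsg.Agent.Omega.TwoFFour

end

section


/-!
# THEOREM 2F4: the situation `Sit` gives the amalgam `Oct`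
-/

set_option autoImplicit false
set_option linter.unusedSectionVars false

namespace Cfsg.Agent.Omega.TwoFFour

open Subgroup Matrix
open Cfsg.Agent.ZN Cfsg.Agent.MinSimple.VModule Cfsg.Agent.Lib.SL2Mat
open Cfsg.Agent.LieRecognition.SzMatrix (Good Umat Umat_def Dmat Dmat_def W_mul_W theta_ne_zero)
open Cfsg.Agent.Omega.NatPair (NatMod ap ext2)

variable {G : Type*} [Group G]

namespace Sit

variable {F : Type*} [Field F] {θ : F →+* F} {e : ℕ} {H : Good F θ e} {S : Sylow 2 G} {V Z W : Subgroup G}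
variable {h : Sit F H S V Z W} {Hh : Subgroup G}

theorem form' {g : G} (hg : g ∈ h.Bo) : ∃ (ρ : F ≃+* F) (a l : Fˣ) (τ : F),
    ∀ x y, g * h.N.e ![x, y] * g⁻¹ = h.N.e ![a * ρ x + τ * ρ y, l * ρ y] := by
  obtain ⟨ρ, a, τ, l, hf⟩ := h.form hg
  have hl : l ≠ 0 := by
    rintro rfl
    have h6 := hf 0 1
    rw [zero_mul] at h6
    have h7 : h.N.e ![0, 1] ∈ Z := by
      have h8 : g * h.N.e ![0, 1] * g⁻¹ ∈ Z := by rw [h6, h.e_memZ]
      exact (h.conj_mem_iff hg.2).1 h8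
    rw [h.e_memZ] at h7
    exact one_ne_zero h7
  have ha : a ≠ 0 := by
    rintro rfl
    have h6 := hf 1 0
    rw [map_zero, mul_zero, mul_zero, add_zero, zero_mul, h.e_zero, mul_inv_eq_one] at h6
    have h7 : h.N.e ![1, 0] = 1 := by
      have h8 : g * h.N.e ![1, 0] = g * 1 := by rw [h6, mul_one]
      exact mul_left_cancel h8
    rw [← h.e_zero] at h7
    exact one_ne_zero (h.e_inj h7).1
  exact ⟨ρ, Units.mk0 a ha, Units.mk0 l hl, τ, hf⟩

/-- **`split`** -/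
theorem Hall.split [Finite G] (o : Out h) (hH : Hall h Hh) {b : G} (hb : b ∈ h.Bo) :
    ∃ s ∈ S, s⁻¹ * b ∈ normalizer (Hh : Set G) := by
  refine Hall.exists_conj o hH S.isPGroup' ?_ ?_
  · intro x hx
    refine mem_normalizer_of_map_le ?_
    rintro _ ⟨s, hs, rfl⟩
    exact o.nrm x (TT_le (hH.le hx)) s hs
  · intro g hg
    obtain ⟨a, l, m, k, t⟩ := hH.le hg
    obtain ⟨ρ, a', l', τ, hf⟩ := form' hb
    set g' := b * g * b⁻¹ with hg'
    have hgB : g' ∈ h.Bo := mul_mem (mul_mem hb t.memB) (inv_mem hb)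
    have ha' := a'.ne_zero
    have hl' := l'.ne_zero
    -- the action of `g'`
    have hV : ∀ x y, g' * h.N.e ![x, y] * g'⁻¹ = h.N.e ![ρ a * x + τ * (ρ l - ρ a) / l' * y, ρ l * y] := by
      intro x y
      have e1 : h.N.e ![x, y] = b * h.N.e ![ρ.symm ((x - τ * (y / l')) / a'), ρ.symm (y / l')] * b⁻¹ := by
        rw [hf, ρ.apply_symm_apply, ρ.apply_symm_apply]
        congr 1
        apply ext2
        · show x = a' * ((x - τ * (y / l')) / a') + τ * (y / l')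
          field_simp
          ring
        · show y = l' * (y / l')
          field_simp
      have e2 : g' * h.N.e ![x, y] * g'⁻¹ =
          b * (g * h.N.e ![ρ.symm ((x - τ * (y / l')) / a'), ρ.symm (y / l')] * g⁻¹) * b⁻¹ := by
        rw [e1, hg']; group
      rw [e2, t.V, hf, map_mul, map_mul, ρ.apply_symm_apply, ρ.apply_symm_apply]
      congr 1
      apply ext2
      · show a' * (ρ a * ((x - τ * (y / l')) / a')) + τ * (ρ l * (y / l')) = ρ a * x + τ * (ρ l - ρ a) / l' * y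
        field_simp
        ring
      · show l' * (ρ l * (y / l')) = ρ l * y
        field_simp
    set A : Fˣ := Units.map (ρ : F →* F) a with hA
    set L : Fˣ := Units.map (ρ : F →* F) l with hL
    have hAv : (A : F) = ρ a := rfl
    have hLv : (L : F) = ρ l := rfl
    obtain ⟨s, hs, hsK, hsU⟩ := o.cover_K (τ * (ρ l - ρ a) / l' / ρ l)
    have hLne : ρ (l : F) ≠ 0 := by
      rw [← hLv]; exact L.ne_zero
    have hsg : s * g' ∈ h.Bo := mul_mem ⟨h.SV hs, h.S_le_C hs⟩ hgB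
    have hV' : ∀ x y, s * g' * h.N.e ![x, y] * (s * g')⁻¹ = h.N.e ![A * x, L * y] := by
      intro x y
      have e2 : s * g' * h.N.e ![x, y] * (s * g')⁻¹ = s * (g' * h.N.e ![x, y] * g'⁻¹) * s⁻¹ := by group
      rw [e2, hV, hsU, hAv, hLv]
      congr 1
      apply ext2
      · show ρ a * x + τ * (ρ l - ρ a) / l' * y + τ * (ρ l - ρ a) / l' / ρ l * (ρ l * y) = ρ a * x
        have e3 : τ * (ρ l - ρ a) / l' / ρ l * (ρ l * y) = τ * (ρ l - ρ a) / l' * y := by field_simp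
        rw [e3, add_assoc, H.add_self, add_zero]
      · rfl
    obtain ⟨c, hc, m', k', t'⟩ := o.adjust hsg hV'
    obtain ⟨c', hc', y, hy, e2⟩ := hH.cover _ ⟨_, _, _, _, t'⟩
    refine ⟨s⁻¹ * c⁻¹ * c', mul_mem (mul_mem (inv_mem hs) (inv_mem (o.CV hc))) (o.CV hc'), y, hy, ?_⟩
    rw [mul_assoc (s⁻¹ * c⁻¹), ← e2]; group

/-! ### The amalgam -/

/-- the parabolic subgroups -/
def PP (V Z : Subgroup G) : Bool → Subgroup G
  | false => normalizer (Z : Set G)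
  | true => normalizer (V : Set G)

/-- `O₂(P i)` -/
def QQ (h : Sit F H S V Z W) : Bool → Subgroup G
  | false => (S : Subgroup G) ⊓ h.P.K
  | true => centralizer (V : Set G)

/-- the reflections -/
def nn (n₀ n₁ : G) : Bool → G
  | false => n₀
  | true => n₁

theorem odd_units (h : Sit F H S V Z W) : Odd (Nat.card Fˣ) := by
  have := h.finF
  rw [Nat.card_units, h.cardF]
  have h2 : Even (2 ^ (2 * h.mf + 1)) := ⟨2 ^ (2 * h.mf), by rw [pow_succ]; ring⟩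
  exact Nat.Even.sub_odd (Nat.one_le_two_pow) h2 odd_one

theorem one_lt_units (h : Sit F H S V Z W) : 1 < Nat.card Fˣ := by
  have := h.finF
  rw [Nat.card_units, h.cardF]
  have h1 := h.one_le
  have h2 : 2 ^ 3 ≤ 2 ^ (2 * h.mf + 1) := Nat.pow_le_pow_right (by norm_num) (by omega)
  omega

theorem nrm_of {P K : Subgroup G} [Finite G] (hK : ∀ p ∈ P, ∀ k ∈ K, p * k * p⁻¹ ∈ K) : P ≤ normalizer (K : Set G) := by
  intro p hp
  refine mem_normalizer_of_map_le ?_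
  rintro _ ⟨k, hk, rfl⟩
  exact hK p hp k hk

/-- **`Sit` gives `Oct`** -/
theorem oct [Finite F] [Finite G] (h : Sit F H S V Z W)
    (hC2 : ∀ v ∈ Z, v ≠ 1 → centralizer ({v} : Set G) ⊓ centralizer (o2 (centralizer ({v} : Set G)) : Set G) ≤
      o2 (centralizer ({v} : Set G)))
    {Hh : Subgroup G} (hH : Hall h Hh) {n₀ n₁ : G} (hn₁ : h.Sw n₁) (hn₁H : n₁ ∈ normalizer (Hh : Set G))
    (hn₀ : n₀ ∈ centralizer (Z : Set G)) (hn₀W : h.P.Ind n₀ (Cfsg.Agent.LieRecognition.SzMatrix.W F))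
    (hn₀H : n₀ ∈ normalizer (Hh : Set G)) :
    Oct (PP V Z) h.QQ (nn n₀ n₁) h.Bo S Hh Z W h.OO (e : ZMod (Nat.card Fˣ)) h.xw h.yw := by
  have o := h.out
  have hn₀C := h.cZ_le hn₀
  have hn₀V := h.w_notin hn₀C hn₀W
  have hn₁M := h.sw_mem hn₁
  have hn₁Z := h.sw_notin hn₁
  exact
  { inter := inf_comm _ _
    memP := by
      intro i g
      cases i
      · exact h.memP_false hn₀C hn₀V
      · exact h.memP_true hn₁M hn₁Z
    twoS := S.isPGroup'
    S_le := h.S_le_B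
    S_nrm := o.nrm
    oddB := fun b hb => h.oddB hb
    H_le := fun g hg => TT_le (hH.le hg)
    oddH := hH.odd
    split := fun b hb => Hall.split o hH hb
    n_norm := by
      intro i
      cases i
      · exact hn₀H
      · exact hn₁H
    n_not := by
      intro i
      cases i
      · exact fun hb => hn₀V hb.1
      · exact fun hb => hn₁Z hb.2
    Q_le := by
      intro i
      cases i
      · exact inf_le_left
      · exact o.CV
    Q_nrm := by
      intro i p hp a ha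
      cases i
      · have h1 : p * a * p⁻¹ ∈ h.P.K := h.P.conj_mem_K hp ha.2
        exact ⟨o.KZ ⟨h1, h.C_norm_cZ hp (h.SZ ha.1)⟩, h1⟩
      · exact h.conjC hp ha
    Q_max := by
      intro i s hs hB
      cases i
      · exact ⟨hs, h.Q_max_false hn₀C hn₀V hs hB.1⟩
      · exact h.Q_max_true hn₁M hn₁Z hs hB.2
    Q_ne := by
      intro i
      cases i
      · exact h.Q_ne_false
      · exact h.Q_ne_true
    cover := by
      intro s hs
      obtain ⟨a, ha, haK, hac⟩ := o.fac s hs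
      exact ⟨a, ⟨ha, haK⟩, a⁻¹ * s, hac, by group⟩
    oddN := h.odd_units
    one_lt := h.one_lt_units
    sq := e_sq H
    x_mul := hH.mul_x
    y_mul := hH.mul_y
    surj := hH.surj o
    inj := hH.inj'
    x₀ := fun g hg => (hH.x₀ o hn₀ hn₀W hn₀H g hg).1
    y₀ := fun g hg => (hH.x₀ o hn₀ hn₀W hn₀H g hg).2
    x₁ := fun g hg => (hH.x₁ hn₁ hn₁H g hg).1
    y₁ := fun g hg => (hH.x₁ hn₁ hn₁H g hg).2
    triv := by
      intro i g hg hfr s hs
      obtain ⟨a, l, m, k, t⟩ := hH.le hg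
      cases i
      · rw [fr_false_iff o t] at hfr
        subst hfr
        exact ⟨S.mul_mem (o.nrm g t.memB s hs) (inv_mem hs), t.triv_false hs⟩
      · rw [fr_true_iff t] at hfr
        subst hfr
        exact t.triv_true o hs
    free := by
      intro i g hg hfr s hs hc
      obtain ⟨a, l, m, k, t⟩ := hH.le hg
      cases i
      · rw [Ne, fr_false_iff o t] at hfr
        exact ⟨hs, t.free_false hfr hs hc.2⟩
      · rw [Ne, fr_true_iff t] at hfr
        exact t.free_true hfr hs hc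
    Z_le := h.Z_le_W.trans (h.W_le_cen.trans o.CV)
    Z_cen := fun z hz s hs => (h.S_comm_Z hs hz).symm
    Z_sq := fun z hz => h.sq z (h.Z_le_W hz)
    Z_pair := h.Z_pair
    Z_nrm := fun p hp z hz => h.conjZ hp hz
    Z_norm := fun g hg => h.Z_norm hg
    Z_x := by
      intro g hg hx z hz
      obtain ⟨a, l, m, k, t⟩ := hH.le hg
      rw [t.xw_eq, dl_eq_zero] at hx
      subst hx
      exact t.Z_x hz
    Z_two := fun v hv hv1 => h.Z_two hv (hC2 v hv hv1)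
    W_nrm := fun p hp w hw => h.conjW hp hw
    W_cen := by
      intro i
      cases i
      · exact h.cenW_le_K
      · exact centralizer_le h.V_le_W
    W_gen := h.W_gen hn₁ hn₀C hn₀W
    O_le := h.OO_le hn₁
    fixZ := by
      intro g hg s hs hc hne
      obtain ⟨a, l, m, k, t⟩ := hH.le hg
      rw [t.xw_eq, t.yw_eq] at hne
      exact h.fix_Z' hn₁ hs.2 (h.SZ hs.1) t hc fun hla => hne (by rw [hla])
    fixO := by
      intro g hg s hs hc hne
      obtain ⟨a, l, m, k, t⟩ := hH.le hg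
      rw [t.xw_eq, t.yw_eq] at hne
      refine h.fix_O o hs.2 (h.SZ hs.1) t hc fun hla => hne ?_
      have h1 : thU θ a * thU θ l = a * (a * l) := Units.ext hla
      have h2 := congrArg dl h1
      rw [dl_mul, dl_mul, dl_mul, dl_th H, dl_th H] at h2
      linear_combination h2
    omega := by
      intro s hs hss
      obtain ⟨z, hz, hzS, hzK⟩ := h.omega_four hn₁ hn₀C hn₀V hs hss.2
      exact ⟨z, hz, S.mul_mem (inv_mem hzS) hs, hzK⟩
    gen₀ := by
      intro p hp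
      obtain ⟨c, hc, h1⟩ := h.gen_zero hn₁ hn₀C hn₀V p hp
      exact ⟨c, hc, h1.2, h1.1⟩
    gen₁ := by
      intro s hs
      obtain ⟨r, hr, hrS, hrK, hrc⟩ := h.gen_one hn₁ hn₀C hn₀V (fun g hg hgZ => o.KZ ⟨hg, hgZ⟩) hs
      exact ⟨r, ⟨hr, hrS, hrK⟩, hrc⟩
    core := by
      intro K hK hP
      exact h.core (hK.trans inf_le_right) (nrm_of (hP true)) (nrm_of (hP false)) }

/-- **`Sit` gives `Oct`** -/
theorem exists_oct [Finite G] (h : Sit F H S V Z W)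
    (hC2 : ∀ v ∈ Z, v ≠ 1 → centralizer ({v} : Set G) ⊓ centralizer (o2 (centralizer ({v} : Set G)) : Set G) ≤
      o2 (centralizer ({v} : Set G))) :
    ∃ (n : Bool → G) (Hh : Subgroup G) (N : ℕ) (t : ZMod N) (x y : G → ZMod N),
      Oct (PP V Z) h.QQ n h.Bo S Hh Z W h.OO t x y := by
  have := h.finF
  obtain ⟨Hh, hH⟩ := h.out.exists_hall
  obtain ⟨n₁, hn₁, hn₁H⟩ := Hall.exists_n₁ h.out hH
  obtain ⟨n₀, hn₀, hn₀W, hn₀H⟩ := Hall.exists_n₀ h.out hH
  exact ⟨_, _, _, _, _, _, h.oct hC2 hH hn₁ hn₁H hn₀ hn₀W hn₀H⟩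

end Sit

end Cfsg.Agent.Omega.TwoFFour

end

end

-- merged: Cfsg.Agent.Mrg.Omega.TwoFFour.Exit
section

section


/-!
# THEOREM 2F4: the exit

`Oct.bn2` : `⟨P₀, P₁⟩` has a split BN-pair of rank 2;
`Oct.known` : closing, if all members of `L(S)` normalise `⟨P₀, P₁⟩`;
`Oct.known_of_par` : closing, if `N_G(S)` and all minimal parabolic subgroups lie in `⟨P₀, P₁⟩`.
-/

set_option autoImplicit false

universe u

namespace Cfsg.Agent.Omega.TwoFFour

open Subgroup Cfsg.Agent.Omega.MinPar Cfsg.Agent.Omega.Frame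
open Cfsg.Agent.Omega.Close.Base

namespace Oct

variable {G : Type u} [Group G] [Finite G] {P Q : Bool → Subgroup G} {n : Bool → G}
  {B S H Z W O : Subgroup G} {N : ℕ} {θ : ZMod N} {x y : G → ZMod N}

theorem bn2 (h : Oct P Q n B S H Z W O θ x y) (hB : RootLemma.Bender.{u}) : BN2 (P false ⊔ P true : Subgroup G) := by
  obtain ⟨R, hr, hs, -, -⟩ := h.exists_split hB rfl
  exact ⟨R, by omega, hs⟩

/-- **closing** -/
theorem known (h : Oct P Q n B S H Z W O θ x y) (hB : RootLemma.Bender.{u}) (h44 : Exits.St1144.{u}) (hG : Ctx G)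
    {T : Sylow 2 G} (hF : Full (T : Subgroup G))
    (hL : ∀ L : Subgroup G, IsLoc (T : Subgroup G) L → L ≤ normalizer ((P false ⊔ P true : Subgroup G) : Set G)) :
    IsKnownSimple' G := known_of_bn2 h44 hG hF (h.bn2 hB) hL

/-- **closing**, in terms of the minimal parabolic subgroups -/
theorem known_of_par (h : Oct P Q n B S H Z W O θ x y) (hB : RootLemma.Bender.{u}) (h44 : Exits.St1144.{u}) (hG : Ctx G)
    {T : Sylow 2 G} (hF : Full (T : Subgroup G))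
    (hN : normalizer ((T : Subgroup G) : Set G) ≤ P false ⊔ P true)
    (hP : ∀ R : Subgroup G, IsPar (T : Subgroup G) R → R ≤ P false ⊔ P true) : IsKnownSimple' G := by
  have := hG.simple
  have h1 := h.bn2 hB
  refine known_of_eq_top hG.nonComm (eq_top_of_par hG hF h1.ne_bot (hN.trans le_normalizer)
    fun R hR => (hP R hR).trans le_normalizer) fun hs _ => ?_
  exact h1.known h44

end Oct

end Cfsg.Agent.Omega.TwoFFour

end

section


/-!
# THEOREM 2F4: `Sit` gives the BN-pair and the exit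
-/

set_option autoImplicit false

universe u

namespace Cfsg.Agent.Omega.TwoFFour

open Subgroup Cfsg.Agent.Omega.MinPar Cfsg.Agent.Omega.Frame
open Cfsg.Agent.ZN
open Cfsg.Agent.LieRecognition.SzMatrix (Good)
open Cfsg.Agent.Omega.Close.Base

namespace Sit

variable {G : Type u} [Group G] [Finite G] {F : Type*} [Field F] {θ : F →+* F} {e : ℕ} {H : Good F θ e}
  {S : Sylow 2 G} {V Z W : Subgroup G}

/-- `⟨N(Z), N(V)⟩` has a split BN-pair of rank 2. -/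
theorem bn2 (h : Sit F H S V Z W) (hB : RootLemma.Bender.{u})
    (hC2 : ∀ v ∈ Z, v ≠ 1 → centralizer ({v} : Set G) ⊓ centralizer (o2 (centralizer ({v} : Set G)) : Set G) ≤
      o2 (centralizer ({v} : Set G))) :
    BN2 (normalizer (Z : Set G) ⊔ normalizer (V : Set G) : Subgroup G) := by
  obtain ⟨n, Hh, N, t, x, y, ho⟩ := h.exists_oct hC2
  exact ho.bn2 hB

/-- **closing**: `N_G(S)` and all minimal parabolic subgroups lie in `⟨N(Z), N(V)⟩` -/
theorem known_of_par (h : Sit F H S V Z W) (hB : RootLemma.Bender.{u}) (h44 : Exits.St1144.{u}) (hG : Ctx G)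
    (hC2 : ∀ v ∈ Z, v ≠ 1 → centralizer ({v} : Set G) ⊓ centralizer (o2 (centralizer ({v} : Set G)) : Set G) ≤
      o2 (centralizer ({v} : Set G)))
    {T : Sylow 2 G} (hF : Full (T : Subgroup G))
    (hN : normalizer ((T : Subgroup G) : Set G) ≤ normalizer (Z : Set G) ⊔ normalizer (V : Set G))
    (hP : ∀ R : Subgroup G, IsPar (T : Subgroup G) R → R ≤ normalizer (Z : Set G) ⊔ normalizer (V : Set G)) :
    IsKnownSimple' G := by
  obtain ⟨n, Hh, N, t, x, y, ho⟩ := h.exists_oct hC2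
  exact ho.known_of_par hB h44 hG hF hN hP

end Sit

end Cfsg.Agent.Omega.TwoFFour

end

end

-- merged: Cfsg.Agent.Mrg.Omega.NO3S.OneQ
section

/-!
# NO-3S, `q ≥ 4`, `|Z| = q`, critical distance 1: `OneQ` from `OneSz`

`OneSz K` : `W / Z` is the natural module for a normal subgroup `Sz(q)` of `N_G(Z) / C`, `W = ⟨V^{N_G(Z)}⟩`;
`oneQ : Bender → St1144 → OneSz K → OneQ K` : THEOREM 2F4 (`Omega/TwoFFour`).  The minimal parabolic subgroups lie
in `N_G(Z)` or in `N_G(V)` by `Uniq`.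
-/

set_option autoImplicit false

namespace Cfsg.Agent.Omega.NO3S

open Subgroup Cfsg Cfsg.Agent.ZN Cfsg.Agent.Omega.MinPar Cfsg.Agent.Omega.Frame Cfsg.Agent.Omega.FrameNOFF
open Cfsg.Agent.Omega.NoFF.Lines Cfsg.Agent.Omega.NatPair
open Cfsg.Agent.MinSimple.VModule
open Cfsg.Agent.LieRecognition.SzMatrix (Good)
open Cfsg.Agent.Omega.TwoFFour (SzMod)

universe u

/-- **the structure of `N_G(Z)`**: `W / Z` is natural for `Sz(q)` -/
def OneSz (K : Cls.{u}) : Prop :=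
  ∀ (G : Type u) [Group G] [Finite G], K G → ∀ (S : Sylow 2 G) (P : Subgroup G), HypJ S P →
    ∀ (F : Type) [Field F] [Finite F] [CharP F 2], 4 ≤ Nat.card F →
      NatP F (zl (S : Subgroup G) P) P → Nat.card (zc (S : Subgroup G)) = Nat.card F → Uniq (S : Subgroup G) P →
      ∀ y : G, CritN (S : Subgroup G) P 1 1 y →
        (∃ (θ : F →+* F) (e m : ℕ) (H : Good F θ e), 1 ≤ m ∧ Nat.card F = 2 ^ (2 * m + 1) ∧
          Nonempty (SzMod H (normalizer (zc (S : Subgroup G) : Set G)) (WN (S : Subgroup G) P)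
            (zc (S : Subgroup G)))) ∨ IsKnownSimple' G

/-- the minimal parabolic subgroups lie in `N_G(Z)` or in `N_G(V)` -/
theorem Uniq.par_le {G : Type u} [Group G] {S P : Subgroup G} (hu : Uniq S P) {R : Subgroup G} (hR : IsPar S R) :
    R ≤ normalizer (zc S : Set G) ⊔ normalizer (zl S P : Set G) := by
  by_cases h1 : R ≤ normalizer (zc S : Set G)
  · exact h1.trans le_sup_left
  · have h2 : zl S R = zl S P := hu.eq R ⟨hR, h1⟩
    rw [← h2]
    exact (le_normalizer_zl _ _).trans le_sup_right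

/-- `C_G(v)` is of characteristic 2 -/
theorem char2_cen {G : Type u} [Group G] [Finite G] {S : Sylow 2 G} (hG : IsCharacteristicTwoType G) :
    ∀ v ∈ zc (S : Subgroup G), v ≠ 1 → centralizer ({v} : Set G) ⊓ centralizer (o2 (centralizer ({v} : Set G)) : Set G) ≤
      o2 (centralizer ({v} : Set G)) := by
  intro v hv hv1
  obtain ⟨h1, h2, h3⟩ := mem_zc.1 hv
  refine (isLoc_centralizer S h3 hv1 fun s hs => ?_).char2 S hG
  rw [mem_centralizer_singleton_iff]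
  exact h2 s hs

/-- **`OneQ`** -/
theorem oneQ {K : Cls.{u}} (hB : RootLemma.Bender.{u}) (h44 : Exits.St1144.{u}) (h : OneSz K) : OneQ K := by
  intro G _ _ hK S P hJ F _ _ _ hF M hZ hu y hc
  rcases h G hK S P hJ F hF M hZ hu y hc with ⟨θ, e, m, H, hm, hFc, ⟨M'⟩⟩ | h1
  · obtain ⟨s, -⟩ := TwoFFour.exists_sit hJ.toHyp hF M hZ hc hm hFc rfl M'
    exact s.known_of_par hB h44 hJ.ctx (char2_cen hJ.ctx.char2) hJ.full
      ((normalizer_le_normalizer_zc _).trans le_sup_left) fun R hR => hu.par_le hR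
  · exact h1

end Cfsg.Agent.Omega.NO3S

end
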